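import Cfsg.Agent.T3.MDefs
import Cfsg.Agent.OR.Sp62
import Cfsg.Agent.H39.WeylCard
import Cfsg.Agent.H78.TCHom

/-! The group `P0` is `Sp₆(2)` (through the Coxeter presentation of `W(E₇)`); its involutions. -/

set_option autoImplicit false
set_option maxRecDepth 100000

namespace Cfsg.Agent.T3

open Subgroup H49 H14 H78 Equiv

variable {L : Subgroup (Perm (Fin 256))} {Z : Fin 4 → Perm (Fin 256)}

namespace M5

/-- two images of `W(E₇)/⟨w₀⟩` -/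
theorem lift7 {A B : Type*} [Group A] [Group B] (a : ℕ → A) (b : ℕ → B)
    (ha : CoxeterMatrix.E₇.IsLiftable fun i : Fin 7 => a i)
    (hb : CoxeterMatrix.E₇.IsLiftable fun i : Fin 7 => b i)
    (hg : closure (Set.range fun i : Fin 7 => a i) = ⊤) (hc : Nat.card A = 1451520)
    (ha9 : ([0, 1, 2, 3, 4, 5, 6].map a).prod ^ 9 = 1) (hb9 : ([0, 1, 2, 3, 4, 5, 6].map b).prod ^ 9 = 1) :
    ∃ θ : A →* B, ∀ i : Fin 7, θ (a i) = b i := by
  let cs := CoxeterMatrix.E₇.toCoxeterSystem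
  let ψ := cs.lift ⟨_, ha⟩
  let χ := cs.lift ⟨_, hb⟩
  have hs : CoxeterMatrix.E₇.IsLiftable fun _ => (-1 : ℤˣ) := fun i j => by simp
  let sg := cs.lift ⟨_, hs⟩
  have h1 : ∀ i, ψ (cs.simple i) = a i := cs.lift_apply_simple ha
  have h2 : ∀ i, χ (cs.simple i) = b i := cs.lift_apply_simple hb
  have h3 : ∀ i, sg (cs.simple i) = -1 := cs.lift_apply_simple hs
  have hψ : Function.Surjective ψ := MonoidHom.range_eq_top.1 (eq_top_iff.2 (hg ▸ (closure_le _).2 (by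
    rintro _ ⟨i, rfl⟩; exact ⟨_, h1 i⟩)))
  have hk : Nat.card ψ.ker = 2 := by
    have := card_eq_card_quotient_mul_card_subgroup ψ.ker
    rw [H39.card_W_E7, Nat.card_congr (QuotientGroup.quotientKerEquivOfSurjective ψ hψ).toEquiv, hc] at this
    omega
  have w1 : (List.ofFn cs.simple).prod ^ 9 ≠ 1 := fun e => by
    have := congrArg sg e
    rw [map_pow, map_list_prod, List.map_ofFn, show sg ∘ cs.simple = fun _ => -1 from funext h3,
      map_one] at this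
    exact absurd this (by decide)
  have hle : ψ.ker ≤ χ.ker := fun x hx => by
    obtain ⟨w, -, hw⟩ := (Nat.card_eq_two_iff' (1 : ψ.ker)).1 hk
    by_cases c : x = 1
    · rw [c]; exact one_mem _
    have m : (List.ofFn cs.simple).prod ^ 9 ∈ ψ.ker := by
      rw [MonoidHom.mem_ker, map_pow, map_list_prod, List.map_ofFn, show ψ ∘ cs.simple = _ from funext h1]
      exact ha9
    rw [show x = _ from congrArg Subtype.val ((hw ⟨x, hx⟩ fun t => c (congrArg Subtype.val t)).trans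
      (hw ⟨_, m⟩ fun t => w1 (congrArg Subtype.val t)).symm), MonoidHom.mem_ker, map_pow, map_list_prod,
      List.map_ofFn, show χ ∘ cs.simple = _ from funext h2]
    exact hb9
  exact ⟨ψ.liftOfSurjective hψ ⟨χ, hle⟩, fun i =>
    h1 i ▸ (ψ.liftOfRightInverse_comp_apply _ _ ⟨χ, hle⟩ _).trans (h2 i)⟩

/-- additive permutations -/
def Ad : Subgroup (Perm (Fin 256)) where
  carrier := {g | ∀ v w, g (xr v w) = xr (g v) (g w)}
  one_mem' _ _ := rfl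
  mul_mem' {g h} hg hh v w := by rw [Perm.mul_apply, hh, hg]; rfl
  inv_mem' {g} hg v w := g.injective (by rw [hg]; simp)

theorem lb_xor (c v w i : ℕ) : lb c (v ^^^ w) i = lb c v i ^^^ lb c w i := by
  rw [lb, lb, lb, Nat.xor_div_two_pow, show 2 = 2 ^ 1 from rfl, Nat.xor_mod_two_pow, pow_one]
  rcases Nat.mod_two_eq_zero_or_one (v / 2 ^ i) with h | h <;>
    rcases Nat.mod_two_eq_zero_or_one (w / 2 ^ i) with k | k <;> simp [h, k]

theorem lp_mem_Ad {c : ℕ} (h : lok c = true) : lp c ∈ Ad := fun v w => Fin.ext (by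
  change _ = (lp c v).val ^^^ (lp c w).val
  rw [lp_apply h, lp_apply h, lp_apply h]
  change lin c (v.val ^^^ w.val) = _
  simp only [lin, lb_xor]
  ac_rfl)

theorem P0_le : P0 ≤ Ad := by
  obtain ⟨h1, h2, h3, h4, h5, -⟩ := lok_gens
  refine (closure_le _).2 fun g hg => ?_
  rcases hg with rfl | rfl | rfl | rfl | rfl <;> apply lp_mem_Ad <;> assumption

/-- letters: `0, …, 6` Coxeter generators, `7, …, 10` the `Z i`, `11` is `τ`, `12` is `d`, then the generators -/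
def L8 : List ℕ := [nat_lit 0x5faefd0cfb0a59a807f6a554a35201f044b5e617e01142b31cedbe4fb8491aeb7988db2add2c7f8e21d08372857427d66293c031c63764953acb98699e6f3ccd14e5b647b04112e34cbdee1fe8194abb0ffead5cab5a09f857a6f504f30251a032c39061966734c56a9bc839ce3f6c9d29d88b7a8d7c2fde7180d322d5247786d9287b8a7d8cdf2e817023d225d48776c23360916697c4359a6b38c93ecf9c6dff0e5dac5baaf908a75605f403f2a150e41546b740b1e213bc4d1eef18e9ba4b926330c136c79465ca3b68996e9fcc3d89782bda2ddc8f7ed12073827584d726b44516e710e1b243ec1d4ebf48b9ea1baf5e0dfc0bfaa958f70655a453a2f100,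
  nat_lit 0x77bafd30509dda176da0e72a4a87c00def2265a8c805428ff5387fb2d21f589513de995434f9be7309c4834e2ee3a4698b4601ccac6126eb915c1bd6b67b3cf114d99e5333feb9740ec3844929e4a36e8c4106cbab6621ec965b1cd1b17c3bf670bdfa37579add106aa7e02d4d80c70ae82562afcf024588f23f78b5d5185f92e5286fa2c20f4885ff3275b8d815529f7db0f73a5a97d01d67aaed20408dca07814c0bc6a66b2ce19b5611dcbc7136fb19d4935e3ef3b47903ce894424e9ae63864b0cc1a16c2be69c5116dbbb7631fc1ed3945939f4b37e04c98e4323eea964e22f68a5c5084f82f83572bfdf1255987ab7f03d5d90d71a60adea27478acd00,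
  nat_lit 0xf514678611f083626d8cff1e89681bfaef0e7d9c0bea99787796e504937201e0d03142a334d5a64748a9da3bac4d3edfca2b58b92ecfbc5d52b3c021b65724c5ba5b28c95ebfcc2d22c3b051c62754b5a04132d344a5d63738d9aa4bdc3d4eaf9f7e0dec7b9ae90807e69574e3027190856417f66180f3121dfc8f6ef9186b8a7f9eed0c9b7a09e8e706759403e291706584f716816013f2fd1c6f8e19f88b6a5abbc829be5f2ccdc22350b126c7b45540a1d233a44536d7d8394aab3cddae4f30d1a243d43546a7a8493adb4cadde3f2acbb859ce2f5cbdb25320c156b7c42515f48766f11063828d6c1ffe6988fb1a0fee9d7ceb0a7998977605e47392e100,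
  nat_lit 0x7d445b62fbc2dde4340d122bb28b94adae9788b128110e37e7dec1f86158477edfe6f9c059607f4696afb0891029360f0c352a138ab3ac95457c635ac3fae5dc053c231a83baa59c4c756a53caf3ecd5d6eff0c95069764f9fa6b98019203f06a79e81b82118073eeed7c8f168514e77744d526bf2cbd4ed3d041b22bb829da4d9e0ffc65f66794090a9b68f162f30090a332c158cb5aa93437a655cc5fce3da7b425d64fdc4dbe2320b142db48d92aba8918eb72e170831e1d8c7fe675e4178a19887be271e0138e8d1cef76e574871724b546df4cdd2eb3b021d24bd849ba2033a251c85bca39a4a736c55ccf5ead3d0e9f6cf566f704999a0bf861f263900,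
  nat_lit 0x5f07abf30d55f9a1aef65a02fca408509ac26e36c8903c646b339fc73961cd95d088247c82da762e2179d58d732b87df154de1b9471fb3ebe4bc1048b6ee421a6a329ec63860cc949bc36f37c9913d65aff75b03fda509515e06aaf20c54f8a0e5bd1149b7ef431b144ce0b8461eb2ea2078d48c722a86ded189257d83db772f702884dc227ad68e81d9752dd38b277fb5ed4119e7bf134b441cb0e8164ee2baffa70b53adf559010e56faa25c04a8f03a62ce9668309cc4cb933f6799c16d35451db1e9174fe3bbb4ec4018e6be124a80d8742cd28a267e712985dd237bd78fca923e6698c06c343b63cf9769319dc50f57fba35d05a9f1fea60a52acf45800,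
  nat_lit 0x7dbdfd3d5d9ddd1d6daded2d4d8dcd0d75b5f5355595d51565a5e5254585c50579b9f9395999d91969a9e9294989c90971b1f1315191d11161a1e1214181c1017ebefe3e5e9ede1e6eaeee2e4e8ece0e76b6f6365696d61666a6e6264686c6067abafa3a5a9ada1a6aaaea2a4a8aca0a72b2f2325292d21262a2e2224282c2027fbfff3f5f9fdf1f6fafef2f4f8fcf0f77b7f7375797d71767a7e7274787c7077bbbfb3b5b9bdb1b6babeb2b4b8bcb0b73b3f3335393d31363a3e3234383c3037cbcfc3c5c9cdc1c6cacec2c4c8ccc0c74b4f4345494d41464a4e4244484c40478b8f8385898d81868a8e8284888c80870b0f0305090d01060a0e0204080c000,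
  nat_lit 0xd743ab3fa632da4e34a048dc45d139ad9a0ee672eb7f970379ed0591089c74e01c8860f46df91185ff6b83178e1af26651c52db920b45cc8b226ce5ac357bf2bc155bd29b024cc5822b65eca53c72fbb8c18f064fd6981156ffb13871e8a62f60a9e76e27bef0793e97d9501980ce47047d33baf36a24adea430d84cd541a93dea7e96029b0fe773099d75e178ec0490a733db4fd642aa3e44d038ac35a149dd21b55dc950c42cb8c256be2ab327cf5b6cf810841d8961f58f1bf367fe6a8216fc6880148d19f1651f8b63f76efa1286b125cd59c054bc2852c62eba23b75fcb37a34bdf46d23aaed440a83ca531d94d7aee06920b9f77e3990de571e87c9400,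
  nat_lit 0x575655545f5e5d5c5b5a595853525150777675747f7e7d7c7b7a797873727170676665646f6e6d6c6b6a696863626160474645444f4e4d4c4b4a494843424140d7d6d5d4dfdedddcdbdad9d8d3d2d1d0f7f6f5f4fffefdfcfbfaf9f8f3f2f1f0e7e6e5e4efeeedecebeae9e8e3e2e1e0c7c6c5c4cfcecdcccbcac9c8c3c2c1c0979695949f9e9d9c9b9a999893929190b7b6b5b4bfbebdbcbbbab9b8b3b2b1b0a7a6a5a4afaeadacabaaa9a8a3a2a1a0878685848f8e8d8c8b8a898883828180171615141f1e1d1c1b1a191813121110373635343f3e3d3c3b3a393833323130272625242f2e2d2c2b2a292823222120070605040f0e0d0c0b0a090803020100,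
  nat_lit 0x5d5f5e5c595b5a5855575654515352507d7f7e7c797b7a7875777674717372706d6f6e6c696b6a6865676664616362604d4f4e4c494b4a484547464441434240dddfdedcd9dbdad8d5d7d6d4d1d3d2d0fdfffefcf9fbfaf8f5f7f6f4f1f3f2f0edefeeece9ebeae8e5e7e6e4e1e3e2e0cdcfceccc9cbcac8c5c7c6c4c1c3c2c09d9f9e9c999b9a989597969491939290bdbfbebcb9bbbab8b5b7b6b4b1b3b2b0adafaeaca9abaaa8a5a7a6a4a1a3a2a08d8f8e8c898b8a8885878684818382801d1f1e1c191b1a1815171614111312103d3f3e3c393b3a3835373634313332302d2f2e2c292b2a2825272624212322200d0f0e0c090b0a080507060401030200,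
  nat_lit 0x757776747d7f7e7c797b7a7871737270656766646d6f6e6c696b6a6861636260555756545d5f5e5c595b5a5851535250454746444d4f4e4c494b4a4841434240f5f7f6f4fdfffefcf9fbfaf8f1f3f2f0e5e7e6e4edefeeece9ebeae8e1e3e2e0d5d7d6d4dddfdedcd9dbdad8d1d3d2d0c5c7c6c4cdcfceccc9cbcac8c1c3c2c0b5b7b6b4bdbfbebcb9bbbab8b1b3b2b0a5a7a6a4adafaeaca9abaaa8a1a3a2a0959796949d9f9e9c999b9a9891939290858786848d8f8e8c898b8a8881838280353736343d3f3e3c393b3a3831333230252726242d2f2e2c292b2a2821232220151716141d1f1e1c191b1a1811131210050706040d0f0e0c090b0a0801030200,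
  nat_lit 0xd5d7d6d4dddfdedcd9dbdad8d1d3d2d0f5f7f6f4fdfffefcf9fbfaf8f1f3f2f0e5e7e6e4edefeeece9ebeae8e1e3e2e0c5c7c6c4cdcfceccc9cbcac8c1c3c2c0959796949d9f9e9c999b9a9891939290b5b7b6b4bdbfbebcb9bbbab8b1b3b2b0a5a7a6a4adafaeaca9abaaa8a1a3a2a0858786848d8f8e8c898b8a8881838280555756545d5f5e5c595b5a5851535250757776747d7f7e7c797b7a7871737270656766646d6f6e6c696b6a6861636260454746444d4f4e4c494b4a4841434240151716141d1f1e1c191b1a1811131210353736343d3f3e3c393b3a3831333230252726242d2f2e2c292b2a2821232220050706040d0f0e0c090b0a0801030200,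
  nat_lit 0xfffefdfcfbfaf9f8f7f6f5f4f3f2f1f0bfbebdbcbbbab9b8b7b6b5b4b3b2b1b07f7e7d7c7b7a797877767574737271703f3e3d3c3b3a39383736353433323130efeeedecebeae9e8e7e6e5e4e3e2e1e0afaeadacabaaa9a8a7a6a5a4a3a2a1a06f6e6d6c6b6a696867666564636261602f2e2d2c2b2a29282726252423222120dfdedddcdbdad9d8d7d6d5d4d3d2d1d09f9e9d9c9b9a999897969594939291905f5e5d5c5b5a595857565554535251501f1e1d1c1b1a19181716151413121110cfcecdcccbcac9c8c7c6c5c4c3c2c1c08f8e8d8c8b8a898887868584838281804f4e4d4c4b4a494847464544434241400f0e0d0c0b0a09080706050403020100,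
  nat_lit 0xf7f6f5f4fffefdfcfbfaf9f8f3f2f1f0e7e6e5e4efeeedecebeae9e8e3e2e1e0d7d6d5d4dfdedddcdbdad9d8d3d2d1d0c7c6c5c4cfcecdcccbcac9c8c3c2c1c0b7b6b5b4bfbebdbcbbbab9b8b3b2b1b0a7a6a5a4afaeadacabaaa9a8a3a2a1a0979695949f9e9d9c9b9a999893929190878685848f8e8d8c8b8a898883828180777675747f7e7d7c7b7a797873727170676665646f6e6d6c6b6a696863626160575655545f5e5d5c5b5a595853525150474645444f4e4d4c4b4a494843424140373635343f3e3d3c3b3a393833323130272625242f2e2d2c2b2a292823222120171615141f1e1d1c1b1a191813121110070605040f0e0d0c0b0a090803020100,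
  nat_lit 0xebeae9e813121110b7b6b5b44f4e4d4c07060504fffefdfc5b5a5958a3a2a1a09f9e9d9c67666564c3c2c1c03b3a3938737271708b8a89882f2e2d2cd7d6d5d4838281807b7a7978dfdedddc272625246f6e6d6c9796959433323130cbcac9c8f7f6f5f40f0e0d0cabaaa9a8535251501b1a1918e3e2e1e047464544bfbebdbc57565554afaeadac0b0a0908f3f2f1f0bbbab9b843424140e7e6e5e41f1e1d1c23222120dbdad9d87f7e7d7c87868584cfcecdcc37363534939291906b6a69683f3e3d3cc7c6c5c4636261609b9a9998d3d2d1d02b2a29288f8e8d8c777675744b4a4948b3b2b1b017161514efeeedeca7a6a5a45f5e5d5cfbfaf9f803020100,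
  nat_lit 0x5f5e5d5cabaaa9a807060504f3f2f1f0e7e6e5e413121110bfbebdbc4b4a49488382818077767574dbdad9d82f2e2d2c3b3a3938cfcecdcc6362616097969594b7b6b5b443424140efeeedec1b1a19180f0e0d0cfbfaf9f857565554a3a2a1a06b6a69689f9e9d9c33323130c7c6c5c4d3d2d1d0272625248b8a89887f7e7d7c23222120d7d6d5d47b7a79788f8e8d8c9b9a99986f6e6d6cc3c2c1c037363534fffefdfc0b0a0908a7a6a5a45352515047464544b3b2b1b01f1e1d1cebeae9e8cbcac9c83f3e3d3c939291906766656473727170878685842b2a2928dfdedddc17161514e3e2e1e04f4e4d4cbbbab9b8afaeadac5b5a5958f7f6f5f403020100,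
  nat_lit 0xee1cbd4fea18b94be614b547e210b1430dff5eac09fb5aa805f756a401f352a09f6dcc3e9b69c83a9765c4369361c0327c8e2fdd788a2bd9748627d5708223d18c7edf2d887adb298476d7258072d3216f9d3cce6b9938ca679534c6639130c2fd0fae5cf90baa58f507a654f103a2501eec4dbf1ae849bb16e445b712e041b35daf0efc59ab0af855a706f451a302f0be4ced1fba48e91bb644e517b240e1132cde7f8d28da7b8924d6778520d27381cf3d9c6ecb39986ac7359466c33190623fcd6c9e3bc9689a37c5649633c16092dc2e8f7dd82a8b79d4268775d02283714ebc1def4ab819eb46b415e742b011e3ad5ffe0ca95bfa08a557f604a153f200,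
  nat_lit 0x5fae0dfc5baa09f857a605f453a201f0ed1cbf4ee918bb4ae514b746e110b3428c7dde2f8879da2b8475d6278071d2233ecf6c9d3acb689936c7649532c36091bd4cef1eb948eb1ab544e716b140e3120ffe5dac0bfa59a807f655a403f251a06e9f3ccd6a9b38c9669734c5629330c1dc2d8e7fd8298a7bd4258677d02182732cdd7e8f28d97a8b24d5768720d172839e6fcc3d9a6bc8399667c4359263c031ff0ead5cfb0aa958f706a554f302a1504dbc1fee49b81bea45b417e641b013e2ce3f9c6dca3b9869c6379465c23390617c8d2edf78892adb748526d7708122d31dec4fbe19e84bba15e447b611e043b2af5efd0cab5af908a756f504a352f100,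
  nat_lit 0x706f5f45f5eadacfbfa0908a3a251502223d0d17a7b8889dedf2c2d868774756b6a99983332c1c097966564cfce3d3c4e4fbcbd1617e4e5b2b34041eaeb181982837071dadb28297e7f8c8d2627d4d5a7a65554fffe0d0c5b5aa9a80302f1f0eeef1c1db6b744451213e0e14a4bb8b9cbca3938939261603736c5c46f6e9d9c9b9a6968c3c23130676695943f3ecdccbebf4c4de6e714154243b0b11a1be8e9f7f60504afae5d5c0b0af9f85352a1a0d2d320218a8b78792e2fdcdd767784851e1feced4647b4b5e2e31011babb48493b3ac9c863629190c7c635349f9e6d6c727380812a2bd8d98e8f7c7dd6d724255756a5a40f0efdfcabaa5958f3f20100]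

/-- the Coxeter generators on 63 points -/
def LA : List ℕ := [nat_lit 0x3ef7cef6d74cfae78df283092eb6c7eaa689e696f617871ad64d26da52389e39975c44c3d53502ca2481c61440c2001,
  nat_lit 0x3e9edefa8dddf6613cf27e5bcdf0a80ba68f66c24e5686bc57e1c45a6757a2554d126d03ceb8caac2481c6144083040,
  nat_lit 0x3ae39dfef3def6d74cf2c6ba6e8ecc2abe875c824b5b5657de9e68906585d184f4d259a50e34c2ca2481c11440c2180,
  nat_lit 0x2ea32abae78df6d74cfc508bfeb6cafb2bd9c39643228597c139c1da8105c04f15524583dd3632e92706c6144982796,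
  nat_lit 0x1af7c850e7854cd743855d1beeb435aaa499e66e48e0ee279f75c97e658c6bdd44d2c3a3f33762c2a081c6c84b0a040,
  nat_lit 0x29c3ceefe6bde4d5fcf24fde8ab4de2af889669f68e23ddd1e81c6da3985d6515c52450859b0c2ee2681c61050c2040,
  nat_lit 0x3bf3dfb7e39eb3d35da8c70bea9ecaeea72b669647626a07de8dc6e16535d64146124553cc2ce34a1481c62440c2040]

theorem valid8 : allL L8 (valid 8 256 256) = true := by decide +kernel

theorem inA : ∀ P ∈ LA, OR.Sp62.E.InG OR.Sp62.K P := fun P hP =>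
  have h := (by decide +kernel : ∀ P ∈ LA, valid 6 64 63 P = true ∧ sift 6 64 63 OR.Sp62.certL P = true) P hP
  OR.Sp62.chain.inG_of_sift h.1 h.2

theorem validA : allL LA (valid 6 64 63) = true := by decide +kernel

/-- the letters -/
noncomputable def el (n : ℕ) : Perm (Fin 256) := elP E8 L8 n

/-- the value of a word -/
noncomputable def ev (w : List ℕ) : Perm (Fin 256) := (w.map el).prod

/-- the packed value of a word -/
noncomputable abbrev pw (w : List ℕ) : ℕ := prodP 8 256 256 L8 w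

theorem pk_ev (w : List ℕ) : E8.pk (ev w) = pw w := pk_prod_elP E8 valid8 w

theorem pk_el (n : ℕ) : E8.pk (el n) = nthD L8 (idP 8 256) n := pk_elP E8 valid8 n

theorem ev_append (v w : List ℕ) : ev (v ++ w) = ev v * ev w := by simp [ev]

theorem ev_one (n : ℕ) : ev [n] = el n := mul_one _

theorem weq (v w : List ℕ) (h : pw v = pw w) : ev v = ev w :=
  E8.pk_injective (by rw [pk_ev, pk_ev, h])

theorem ev_mem {X : Subgroup (Perm (Fin 256))} {w : List ℕ} (h : ∀ n ∈ w, el n ∈ X) : ev w ∈ X :=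
  X.list_prod_mem fun x hx => by
    obtain ⟨n, hn, rfl⟩ := List.mem_map.1 hx
    exact h n hn

theorem el_lp : el 12 = lp cD ∧ el 13 = lp cK1 ∧ el 14 = lp cK2 ∧ el 15 = lp cK3 ∧ el 16 = lp cK4 ∧
    el 17 = lp cC0 := by
  refine ⟨?_, ?_, ?_, ?_, ?_, ?_⟩ <;> exact congrArg E8.perm (by decide +kernel)

theorem el_Z (hZ : ZOK Z) (i : Fin 4) : el (7 + i) = Z i := E8.pk_injective (by
  rw [pk_el, (by decide +kernel : ∀ i : Fin 4, nthD L8 (idP 8 256) (7 + i) = pack 8 256 (zf i)) i]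
  exact pack_congr fun j hj => ((hZ i _).trans (congrArg (zf i) (E8.ix_pt j hj))).symm)

theorem el_tau (v : Fin 256) : (el 11 v).val = tauf v.val := by
  have := E8.app_pk (el 11) v
  rw [pk_el] at this
  exact this.symm.trans (beq_iff.1 (allN_iff.1 (by decide +kernel :
    allN 256 (fun v => Nat.beq (app 8 256 (nthD L8 (idP 8 256) 11) v) (tauf v)) = true) v v.2))

theorem gen_mem {n : ℕ} (h : 13 ≤ n ∧ n ≤ 17) : el n ∈ P0 := by
  obtain ⟨-, h1, h2, h3, h4, h5⟩ := el_lp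
  obtain ⟨a, b⟩ := h
  interval_cases n <;> refine subset_closure ?_ <;> simp [*]

theorem el_mem {n : ℕ} (h : n < 7) : el n ∈ P0 := by
  obtain ⟨a, b⟩ := (by decide +kernel : ∀ n < 7, (∀ j ∈ ([[17, 16, 13, 15, 16, 14, 15, 13, 13], [16, 15, 13, 13, 17, 16, 13, 15, 14], [15, 16, 14, 15, 13, 13, 17, 16, 13], [16, 14, 15, 13, 13, 17, 16, 13, 15], [15, 13, 15, 17, 15, 15, 17, 16, 13, 17, 14], [16, 13, 17, 14, 14, 13, 17, 16, 13, 17, 17], [16, 17, 17, 15, 15, 17, 17, 14, 13, 17, 13, 13]] : List (List ℕ)).getD n [], 13 ≤ j ∧ j ≤ 17) ∧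
    pw [n] = pw (([[17, 16, 13, 15, 16, 14, 15, 13, 13], [16, 15, 13, 13, 17, 16, 13, 15, 14], [15, 16, 14, 15, 13, 13, 17, 16, 13], [16, 14, 15, 13, 13, 17, 16, 13, 15], [15, 13, 15, 17, 15, 15, 17, 16, 13, 17, 14], [16, 13, 17, 14, 14, 13, 17, 16, 13, 17, 17], [16, 17, 17, 15, 15, 17, 17, 14, 13, 17, 13, 13]] : List (List ℕ)).getD n [])) n h
  rw [← ev_one, weq _ _ b]
  exact ev_mem fun j hj => gen_mem (a j hj)

theorem wmem {w : List ℕ} (h : ∀ n ∈ w, n < 7) : ev w ∈ P0 := ev_mem fun n hn => el_mem (h n hn)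

/-- the Coxeter generators in the model on 63 points -/
noncomputable def ea (n : ℕ) : OR.Sp62.K := ⟨elP OR.Sp62.E LA n, (Enc.inG_nthD inA n).perm_mem⟩

theorem pk_ea (w : List ℕ) :
    OR.Sp62.E.pk ((w.map ea).prod : OR.Sp62.K) = prodP 6 64 63 LA w := by
  rw [← pk_prod_elP OR.Sp62.E validA]
  exact congrArg _ ((map_list_prod OR.Sp62.K.subtype _).trans (by rw [List.map_map]; rfl))

theorem exists_theta : ∃ θ : OR.Sp62.K →* Perm (Fin 256), Function.Injective θ ∧ θ.range = P0 ∧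
    ∀ w : List ℕ, (∀ n ∈ w, n < 7) → θ (w.map ea).prod = ev w := by
  have hg : closure (Set.range fun i : Fin 7 => ea i) = ⊤ := by
    have : OR.Sp62.K ≤ (closure (Set.range fun i : Fin 7 => ea i)).map OR.Sp62.K.subtype :=
      Enc.grp_le fun P hP => by
        obtain ⟨w, -, a, rfl⟩ := (by decide +kernel : ∀ P ∈ OR.Sp62.gens, ∃ w ∈ ([[0, 2], [6, 5, 4, 2, 3, 0, 2, 1, 3, 4, 5, 6, 0, 2, 1, 3, 4, 5, 1, 3, 4, 1, 3, 1], [2], [4, 5, 3, 4, 2, 3, 0, 2, 1, 3, 4, 5, 2, 3, 0, 2, 1, 3, 4, 0, 2, 0], [5, 1, 3, 4, 2, 3, 0, 2, 1, 3, 4, 5, 6, 5, 4, 3, 2, 1, 3, 4, 5, 0, 2, 3, 1]] : List (List ℕ)),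
          (∀ n ∈ w, n < 7) ∧ prodP 6 64 63 LA w = P) P hP
        refine ⟨_, ⟨(w.map ea).prod, Subgroup.list_prod_mem _ fun x hx => ?_, rfl⟩, pk_ea w⟩
        obtain ⟨n, hn, rfl⟩ := List.mem_map.1 hx
        exact subset_closure ⟨⟨n, a n hn⟩, rfl⟩
    refine eq_top_iff.2 fun x _ => ?_
    obtain ⟨y, hy, e⟩ := this x.2
    exact Subtype.ext e ▸ hy
  obtain ⟨θ, hθ⟩ := lift7 ea el
    (fun i j => Subtype.ext (OR.Sp62.E.pk_injective (by
      change OR.Sp62.E.pk ((elP _ LA i * elP _ LA j) ^ _) = OR.Sp62.E.pk 1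
      rw [Enc.pk_pow, Enc.pk_mul, pk_elP _ validA, pk_elP _ validA, Enc.pk_one]
      revert i j
      decide +kernel)))
    (fun i j => E8.pk_injective (by
      rw [Enc.pk_pow, Enc.pk_mul, pk_el, pk_el, Enc.pk_one]
      revert i j
      decide +kernel)) hg OR.Sp62.card
    (Subtype.ext (OR.Sp62.E.pk_injective (by
      rw [Subgroup.coe_pow, Subgroup.coe_one, Enc.pk_pow, pk_ea, Enc.pk_one]
      decide +kernel)))
    (E8.pk_injective (by
      rw [← ev, Enc.pk_pow, pk_ev, Enc.pk_one]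
      decide +kernel))
  have hw : ∀ w : List ℕ, (∀ n ∈ w, n < 7) → θ (w.map ea).prod = ev w := fun w h => by
    rw [map_list_prod, List.map_map]
    exact congrArg List.prod (List.map_congr_left fun n hn => hθ ⟨n, h n hn⟩)
  refine ⟨θ, θ.ker_eq_bot_iff.1 ((OR.Sp62.simple_K.eq_bot_or_eq_top_of_normal _ inferInstance).resolve_right
    fun k => ?_), le_antisymm ?_ ((closure_le _).2 fun g hg => ?_), hw⟩
  · have := congrArg E8.pk ((hw [0] (by decide)).symm.trans (k.ge (mem_top _)))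
    rw [pk_ev, Enc.pk_one] at this
    exact absurd this (by decide +kernel)
  · rw [MonoidHom.range_eq_map, ← hg, map_le_iff_le_comap, closure_le]
    rintro _ ⟨i, rfl⟩
    exact (congrArg (· ∈ P0) (hθ i)).mpr (el_mem i.2)
  · have key : ∀ n < 5, el (13 + n) ∈ θ.range := fun n h => by
      obtain ⟨a, b⟩ := (by decide +kernel : ∀ n < 5, (∀ j ∈ ([[5, 4, 2, 3, 0, 2, 1, 3, 4, 5, 6, 3, 4, 3, 0, 2, 1, 0], [1, 3, 4, 5, 6, 5, 4, 2, 3, 0, 2, 1, 3, 4, 5, 4, 3, 2, 1, 3, 4, 0, 2, 1], [1, 3, 4, 2, 3, 0, 2, 1, 3, 4, 5, 6, 5, 3, 0, 2, 1, 3, 2, 1], [5, 4, 2, 3, 0, 2, 1, 3, 4, 5, 6, 3, 2, 1, 3, 4, 5, 0, 2, 1, 3, 4, 3, 1], [2, 3, 0, 2, 1, 3, 4, 5, 6, 0, 2, 1, 3, 4, 5, 4, 3, 0, 2, 1, 3, 4, 2]] : List (List ℕ)).getD n [], j < 7) ∧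
        pw (([[5, 4, 2, 3, 0, 2, 1, 3, 4, 5, 6, 3, 4, 3, 0, 2, 1, 0], [1, 3, 4, 5, 6, 5, 4, 2, 3, 0, 2, 1, 3, 4, 5, 4, 3, 2, 1, 3, 4, 0, 2, 1], [1, 3, 4, 2, 3, 0, 2, 1, 3, 4, 5, 6, 5, 3, 0, 2, 1, 3, 2, 1], [5, 4, 2, 3, 0, 2, 1, 3, 4, 5, 6, 3, 2, 1, 3, 4, 5, 0, 2, 1, 3, 4, 3, 1], [2, 3, 0, 2, 1, 3, 4, 5, 6, 0, 2, 1, 3, 4, 5, 4, 3, 0, 2, 1, 3, 4, 2]] : List (List ℕ)).getD n []) = pw [13 + n]) n h
      exact ⟨_, (hw _ a).trans ((weq _ _ b).trans (ev_one _))⟩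
    obtain ⟨-, h1, h2, h3, h4, h5⟩ := el_lp
    rcases hg with rfl | rfl | rfl | rfl | rfl
    exacts [h1 ▸ key 0 (by decide), h2 ▸ key 1 (by decide), h3 ▸ key 2 (by decide), h4 ▸ key 3 (by decide),
      h5 ▸ key 4 (by decide)]

/-- the conclusion of `InvOK` for one involution -/
def IP (L : Subgroup (Perm (Fin 256))) (Z : Fin 4 → Perm (Fin 256)) (t : Perm (Fin 256)) : Prop :=
  ((∀ v, t v = v → ∃ w, v = xr w (t w)) ∧ ∃ w ∈ L, w ≠ 1 ∧ w ^ 3 = 1 ∧ Commute w t ∧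
      ∃ l ∈ L, l * w * l⁻¹ ∈ closure (Set.range Z)) ∨
    ∃ l ∈ L, ∀ v, ((l * t * l⁻¹) v).val = tauf v.val

/-- transport along an additive `d`; `k` corrects the action on `⟨Z⟩` and `τ` -/
theorem IP.conj {t d k : Perm (Fin 256)} (h : IP L Z t) (hd : d ∈ Ad) (hZ : ∀ i, Commute k (Z i))
    (hτ : Commute k (el 11)) (hk : k * d⁻¹ ∈ cj d L) : IP (cj d L) Z (d * t * d⁻¹) := by
  have e : ∀ l x : Perm (Fin 256), k * d⁻¹ * (d * l * d⁻¹) * (d * x * d⁻¹) * (k * d⁻¹ * (d * l * d⁻¹))⁻¹ =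
      k * (l * x * l⁻¹) * k⁻¹ := fun l x => by group
  rcases h with ⟨h1, w, hw, w1, w3, wt, l, hl, h2⟩ | ⟨l, hl, h2⟩
  · refine Or.inl ⟨fun v hv => ?_, _, conj_mem_cj.2 hw, by simpa using w1, by rw [conj_pow, w3]; simp,
      wt.conj d, _, mul_mem hk (conj_mem_cj.2 hl), ?_⟩
    · obtain ⟨u, hu⟩ := h1 (d⁻¹ v) (Perm.eq_inv_iff_eq.2 hv)
      exact ⟨d u, by rw [Perm.inv_eq_iff_eq.1 hu, hd]; simp⟩
    · have : closure (Set.range Z) ≤ 𝒞[k] := (closure_le _).2 (by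
        rintro _ ⟨i, rfl⟩; exact mem_centralizer_singleton_iff.2 (hZ i).symm)
      rwa [e, ← mem_centralizer_singleton_iff.1 (this h2), mul_inv_cancel_right]
  · refine Or.inr ⟨_, mul_mem hk (conj_mem_cj.2 hl), fun v => ?_⟩
    rw [e, show l * t * l⁻¹ = el 11 from Equiv.ext fun v => Fin.ext ((h2 v).trans (el_tau v).symm), hτ.eq,
      mul_inv_cancel_right, el_tau]

/-- involution, conjugating element, element of order three, element of `⟨Z⟩` -/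
def free : List (List ℕ × List ℕ × List ℕ × List ℕ) := [([0], [], [4, 5, 1, 3, 4, 2, 3, 0, 2, 1, 3, 4, 5, 6, 4, 3, 2, 1, 3, 4, 5, 0, 2, 3, 4, 1], [9, 10]),
  ([5, 1], [], [2, 3, 0, 2, 1, 3, 4, 5, 6, 5, 4, 3, 2, 1, 3, 2], [8, 10]),
  ([5, 1, 0], [1, 3, 4, 1, 3, 0, 2], [4, 5, 6, 2, 3, 4, 5, 1, 3, 4, 2, 3, 0, 2, 1, 3, 4, 5, 1, 3, 4, 2, 3, 0, 2, 1, 3, 4, 1, 3, 0], [7, 7, 10])]

theorem ip_free (hZ : ZOK Z) : ∀ c ∈ free, IP P0 Z (ev c.1) := fun c hc => by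
  obtain ⟨h1, h2, h3, h4, h5, h6, h7, h8⟩ := (by decide +kernel : ∀ c ∈ free,
    force (pw c.1) (fun T => allN 256 fun v => bimp (Nat.beq (app 8 256 T v) v)
      (!allN 256 fun w => !Nat.beq v (Nat.xor w (app 8 256 T w)))) = true ∧
    (∀ n ∈ c.2.1, n < 7) ∧ (∀ n ∈ c.2.2.1, n < 7) ∧ (∀ n ∈ c.2.2.2, ∃ i : Fin 4, n = 7 + i) ∧
    pw c.2.2.1 ≠ idP 8 256 ∧ powP 8 256 256 (pw c.2.2.1) 3 = idP 8 256 ∧
    comp 8 256 256 (pw c.2.2.1) (pw c.1) = comp 8 256 256 (pw c.1) (pw c.2.2.1) ∧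
    comp 8 256 256 (pw c.2.1) (pw c.2.2.1) = comp 8 256 256 (pw c.2.2.2) (pw c.2.1)) c hc
  simp only [← pk_ev, ← Enc.pk_mul E8, ← Enc.pk_pow E8, ← Enc.pk_one E8, Enc.pk_inj, ne_eq] at h5 h6 h7 h8
  refine Or.inl ⟨fun v hv => ?_, _, wmem h3, h5, h6, h7, _, wmem h2, ?_⟩
  · rw [force_eq, ← pk_ev] at h1
    have a : ∀ u : Fin 256, app 8 256 (E8.pk (ev c.1)) u.val = (ev c.1 u).val := E8.app_pk _
    have := bimp_iff.1 (allN_iff.1 h1 v v.2) (by rw [a, hv]; exact beq_iff.2 rfl)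
    rw [Bool.not_eq_true', ← Bool.not_eq_true, allN_iff] at this
    push Not at this
    obtain ⟨w, hw, e⟩ := this
    refine ⟨⟨w, hw⟩, Fin.ext ?_⟩
    rw [a ⟨w, hw⟩] at e
    simp only [Bool.not_eq_true', Bool.not_eq_false, ne_eq] at e
    exact beq_iff.1 e
  · rw [h8, mul_inv_cancel_right]
    exact ev_mem fun n hn => let ⟨i, e⟩ := h4 n hn; subset_closure ⟨i, by rw [e, el_Z hZ]⟩

theorem ip_P0 (hZ : ZOK Z) {t : Perm (Fin 256)} (ht : t ∈ P0) (h2 : t * t = 1) (h1 : t ≠ 1) : IP P0 Z t := by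
  obtain ⟨θ, hi, hr, hw⟩ := exists_theta
  obtain ⟨g, rfl⟩ := hr.ge ht
  obtain ⟨c, hc, a, ha, e⟩ := OR.Sp62.classes.conj g g.2
  have hm := OR.Sp62.classes.mem hc
  have e1 : g = ⟨a, ha⟩ * ⟨_, hm⟩ * ⟨a, ha⟩⁻¹ := Subtype.ext e.symm
  have hP : θ ⟨a, ha⟩ ∈ P0 := hr.le ⟨_, rfl⟩
  have key : IP P0 Z (θ ⟨_, hm⟩) := by
    have sq : OR.Sp62.E.perm c.X * OR.Sp62.E.perm c.X = 1 := by
      have := congrArg Subtype.val (hi ((map_mul θ g g).trans (h2.trans (map_one θ).symm)))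
      rw [Subgroup.coe_mul, ← e, conj_mul] at this
      exact conj_eq_one_iff.1 this
    have sq' := congrArg OR.Sp62.E.pk sq
    rw [Enc.pk_mul, OR.Sp62.classes.pk_perm hc, Enc.pk_one] at sq'
    have tr : ∀ w : List ℕ, (∀ n ∈ w, n < 7) → prodP 6 64 63 LA w = c.X → θ ⟨_, hm⟩ = ev w := fun w a b => by
      rw [← hw w a]
      exact congrArg θ (Subtype.ext (OR.Sp62.E.pk_injective
        ((OR.Sp62.classes.pk_perm hc).trans (b.symm.trans (pk_ea w).symm))))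
    rcases (by decide +kernel : ∀ c ∈ OR.Sp62.cl, comp 6 64 63 c.X c.X = idP 6 63 →
      prodP 6 64 63 LA [] = c.X ∨ prodP 6 64 63 LA [6, 5, 1, 3, 4, 2, 3, 0, 2, 1, 3, 4, 5, 6, 2, 3, 0, 2, 1, 3, 0, 2, 1, 0] = c.X ∨
      ∃ d ∈ free, (∀ n ∈ d.1, n < 7) ∧ prodP 6 64 63 LA d.1 = c.X) c hc sq' with k | k | ⟨d, hd, k1, k⟩
    · exact absurd (by rw [e1, map_mul, map_mul, tr [] (by decide) k, map_inv]; exact mul_inv_eq_one.2 (mul_one _)) h1
    · rw [tr _ (by decide) k]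
      refine Or.inr ⟨ev [2, 1, 3, 4, 5, 0, 2, 3, 4, 1], wmem (by decide), fun v => ?_⟩
      rw [← el_tau, ← ev_append, weq _ ([11] ++ [2, 1, 3, 4, 5, 0, 2, 3, 4, 1]) (by decide +kernel), ev_append,
        mul_inv_cancel_right, ev_one]
    · exact tr _ k1 k ▸ ip_free hZ d hd
  have := key.conj (k := 1) (P0_le hP) (fun _ => Commute.one_left _) (Commute.one_left _)
    (by rw [cj_eq_of_mem hP, one_mul]; exact inv_mem hP)
  rwa [cj_eq_of_mem hP, ← map_inv, ← map_mul, ← map_mul, ← e1] at this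

theorem comm_el {m n : ℕ} (h : pw [m, n] = pw [n, m]) : Commute (el m) (el n) :=
  (ev_one m ▸ ev_one n ▸ (ev_append [m] [n]).symm.trans ((weq _ _ h).trans (ev_append [n] [m])) :)

theorem comm_D (hZ : ZOK Z) (k : ℕ) (i : Fin 4) : Commute (lp cD ^ k) (Z i) := by
  rw [← el_lp.1, ← el_Z hZ]
  exact (comm_el ((by decide +kernel : ∀ i : Fin 4, pw [12, 7 + i] = pw [7 + i, 12]) i)).pow_left k

end M5

open M5

theorem invOK_P0 (hZ : ZOK Z) (k : ℕ) : InvOK (cj (lp cD ^ k) P0) Z := by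
  intro t ht h2 h1
  obtain ⟨s, hs, rfl⟩ := mem_cj'.1 ht
  rw [conj_mul, conj_eq_one_iff] at h2
  exact (ip_P0 hZ hs h2 fun e => h1 (conj_eq_one_iff.2 e)).conj (Ad.pow_mem (lp_mem_Ad lok_gens.2.2.2.2.2.2) k)
    (comm_D hZ k) (el_lp.1 ▸ (comm_el (by decide +kernel)).pow_left k) (by rw [mul_inv_cancel]; exact one_mem _)

theorem altS_P0 (hZ : ZOK Z) (k : ℕ) : AltS (cj (lp cD ^ k) P0) Z := by
  obtain ⟨θ, hi, hr, -⟩ := exists_theta
  obtain ⟨e⟩ := OR.Sp62.equiv (ZMod.card 2)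
  have hD := comm_D hZ k
  generalize lp cD ^ k = d at hD
  obtain ⟨ρ, hρ⟩ : ∃ ρ : List ℕ, ρ = [4, 5, 1, 3, 4, 2, 3, 0, 2, 1, 3, 4, 5, 6, 5, 4, 3, 2, 1, 3, 4, 5, 0, 2, 3, 4, 1] := ⟨_, rfl⟩
  obtain ⟨g, hg⟩ : ∃ g : List ℕ, g = [3, 2, 1, 3, 4, 5, 6, 0, 2, 3, 4, 5, 4, 2, 3, 0, 2, 1, 3, 0, 2, 0] := ⟨_, rfl⟩
  have z : ∀ i : Fin 4, Z i = ev [7 + i] := fun i => ((ev_one _).trans (el_Z hZ i)).symm
  have c1 : ∀ i j : Fin 4, pw ([7 + j.val] ++ ρ ++ [7 + i.val]) = pw ρ →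
      d * ev ρ * d⁻¹ * Z i * (d * ev ρ * d⁻¹)⁻¹ = (Z j)⁻¹ :=
    fun i j h => by
      have := weq _ _ h
      rw [ev_append, ev_append, ← z, ← z] at this
      rw [← (hD i).mul_inv_cancel, ← (hD j).mul_inv_cancel, conj_mul, conj_inv, conj_mul, conj_inv]
      refine congrArg (d * · * d⁻¹) (eq_inv_of_mul_eq_one_right ?_)
      rw [← mul_assoc, ← mul_assoc, this, mul_inv_cancel]
  refine ⟨⟨(cjEquiv d P0).symm.trans (((MonoidHom.ofInjective hi).trans (MulEquiv.subgroupCongr hr)).symm.trans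
    e.symm)⟩, _, conj_mem_cj.2 (wmem (w := ρ) (by subst hρ; decide)), _,
    conj_mem_cj.2 (wmem (w := g) (by subst hg; decide)), c1 0 1 (by subst hρ; decide +kernel),
    c1 1 0 (by subst hρ; decide +kernel), c1 2 3 (by subst hρ; decide +kernel),
    c1 3 2 (by subst hρ; decide +kernel), ?_, Commute.conj ?_ d, ?_, fun h => ?_⟩
  · rw [conj_pow, conj_eq_one_iff]
    refine E8.pk_injective ?_
    rw [Enc.pk_pow, pk_ev, Enc.pk_one, hg]
    decide +kernel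
  · exact (ev_append g ρ).symm.trans ((weq _ _ (by subst hg hρ; decide +kernel)).trans (ev_append ρ g))
  · rw [← ((hD 0).mul_right (hD 2)).mul_inv_cancel, z, z, ← ev_append]
    exact Commute.conj ((ev_append g _).symm.trans
      ((weq _ _ (by subst hg; decide +kernel)).trans (ev_append _ g))) d
  · have h1 : closure (Set.range Z) ≤ 𝒞[Z 0] := (closure_le _).2 (by
      rintro _ ⟨i, rfl⟩
      rw [← el_Z hZ, ← el_Z hZ]
      exact mem_centralizer_singleton_iff.2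
        (comm_el ((by decide +kernel : ∀ i : Fin 4, pw [7 + i, 7] = pw [7, 7 + i]) i)))
    have h2 := mem_centralizer_singleton_iff.1 (h1 ((mem_normalizer_iff.1 h _).1 (subset_closure ⟨0, rfl⟩)))
    rw [← (hD 0).mul_inv_cancel, conj_mul, conj_inv, conj_mul, conj_mul, conj_mul, mul_left_inj,
      mul_right_inj] at h2
    have h3 := congrArg E8.pk h2
    rw [Enc.pk_mul, Enc.pk_mul E8 (Z 0), Enc.pk_mul3, Enc.pk_inv, z, pk_ev, pk_ev, hg] at h3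
    exact absurd h3 (by decide +kernel)

end Cfsg.Agent.T3
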