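import Cfsg.Agent.T3.M2
import Cfsg.Agent.T3.M3a
import Cfsg.Agent.T3.M1b
import Cfsg.Agent.H46.Generation
import Cfsg.Agent.H23.Basic

set_option autoImplicit false

namespace Cfsg.Agent.T3

open Subgroup H49

variable {G : Type*} [Group G] [Finite G]

namespace Gam

open M3a

theorem d1 : ∀ v, rf (0, 1, 0, 0) (rf (1, 0, 0, 1) v) = rf (1, 0, 0, 1) (rf (0, 1, 0, 0) v) := by
  decide +kernel

theorem d2 : ∀ u : V4, -1 * B u (0, 1, 0, 0) = 0 → u.2.1 = 0 := by decide +kernel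

theorem d3 : ∀ i, F (vv i) ≠ 1 ∧ F (-vv i) ≠ 1 ∧ ∀ j, i ≠ j → F (vv i + -vv j) ≠ 1 := by
  decide +kernel

theorem d4 : ∀ u v : V4, B u (1, 0, 0, 1) = 0 → B v (1, 0, 0, 1) = 0 → B (u + v) (1, 0, 0, 1) = 0 := by
  decide +kernel

theorem d5 : ∀ u : V4, B u (1, 0, 0, 1) = 0 → B (-u) (1, 0, 0, 1) = 0 := by decide +kernel

theorem d6 : ∀ (v : V4) (c d : ZMod 3), c • v = (0, 0, 1, 0) → d • v ≠ (1, 0, 0, -1) := by
  decide +kernel

theorem d7 : ∀ v : V4, v.2.1 = 0 → B v (1, 0, 0, 1) = 0 → v = 0 ∨ F v = -1 ∨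
    (F v = 1 ∧ ∃ i j, i ≠ j ∧ (v = vv i + vv j ∨ v = -(vv i + vv j))) := by decide +kernel

omit [Finite G] in
theorem notin {Y : Subgroup G} (h4 : ∀ a ∈ Y, a ^ 4 = 1) {t d : G} (ht : t ∈ Y) (hd : d ∈ 𝒩(Y))
    (d3 : d ^ 3 = 1) (e : t * d * t⁻¹ = d⁻¹) : d = 1 := by
  have h1 := Y.mul_mem ht (conj_mem_of_norm (zpowers_le.2 hd) (mem_zpowers d) (Y.inv_mem ht))
  rw [show t * (d * t⁻¹ * d⁻¹) = t * d * t⁻¹ * d⁻¹ by group, e] at h1
  have h2 := h4 _ h1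
  calc d = (d⁻¹ * d⁻¹) ^ 4 * (d ^ 3) ^ 3 := by group
    _ = 1 := by rw [h2, d3]; simp

theorem no3 {Y : Subgroup G} (h4 : ∀ a ∈ Y, a ^ 4 = 1) : ¬ 3 ∣ Nat.card Y := fun h => by
  obtain ⟨g, hg⟩ := exists_prime_orderOf_dvd_card' 3 h
  have : orderOf g ∣ 4 := orderOf_dvd_of_pow_eq_one (Subtype.ext (h4 g g.2))
  rw [hg] at this
  omega

theorem fin_arg {Y : Subgroup G} {ρ t : G} (hc : 8 < Nat.card Y) (sq : ∀ a ∈ Y, a * a = 1 ∨ a * a = ρ)
    (tt : t * t = 1) (tN : t ∈ 𝒩(Y)) (hY : ∀ a ∈ Y, t * a * t⁻¹ = a → a = 1 ∨ a = ρ) : False := by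
  classical
  have ti : t⁻¹ = t := inv_eq_of_mul_eq_one_right tt
  have cN : ∀ a ∈ Y, t * a * t⁻¹ ∈ Y := fun a ha => conj_mem_of_norm (zpowers_le.2 tN) (mem_zpowers t) ha
  obtain ⟨y, hy⟩ : ∃ y : G, ∀ c ∈ Y, t * c * t⁻¹ = c⁻¹ → c ∈ ({1, ρ, y, y * ρ} : Finset G) := by
    by_cases h : ∃ y ∈ Y, t * y * t⁻¹ = y⁻¹ ∧ y * y = ρ
    · obtain ⟨y, yY, y1, y2⟩ := h
      refine ⟨y, fun c hc e => ?_⟩
      rcases sq c hc with k | k
      · rcases hY c hc (e.trans (inv_eq_of_mul_eq_one_right k)) with rfl | rfl <;> simp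
      · have := hY (y⁻¹ * c) (Y.mul_mem (Y.inv_mem yY) hc) (by
          calc t * (y⁻¹ * c) * t⁻¹ = (t * y * t⁻¹)⁻¹ * (t * c * t⁻¹) := by group
            _ = y⁻¹ * (y * y) * (c * c)⁻¹ * c := by rw [y1, e]; group
            _ = y⁻¹ * c := by rw [y2, k]; group)
        rw [inv_mul_eq_one, inv_mul_eq_iff_eq_mul] at this
        rcases this with rfl | rfl <;> simp
    · refine ⟨1, fun c hc e => ?_⟩
      rcases sq c hc with k | k
      · rcases hY c hc (e.trans (inv_eq_of_mul_eq_one_right k)) with rfl | rfl <;> simp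
      · exact (h ⟨c, hc, e, k⟩).elim
  haveI : Fintype Y := Fintype.ofFinite Y
  have key := Finset.card_le_mul_card_image_of_maps_to (s := (Finset.univ : Finset Y))
    (f := fun c : Y => (c : G) * (t * (c : G)⁻¹ * t⁻¹)) (t := {1, ρ, y, y * ρ})
    (fun c _ => hy _ (Y.mul_mem c.2 (cN _ (Y.inv_mem c.2))) (by
      calc t * (c * (t * (c : G)⁻¹ * t⁻¹)) * t⁻¹ = t * c * t⁻¹ * (t * t) * (c : G)⁻¹ * (t * t)⁻¹ := by group
        _ = _ := by rw [tt]; group)) 2 (fun b _ => by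
      rcases (Finset.univ.filter fun c : Y => (c : G) * (t * (c : G)⁻¹ * t⁻¹) = b).eq_empty_or_nonempty with
        h | ⟨c0, h0⟩
      · rw [h]; simp
      · refine (Finset.card_le_card_of_injOn (t := {(c0 : G), c0 * ρ}) (fun c : Y => (c : G))
          (fun c hc => ?_) fun _ _ _ _ e => Subtype.ext e).trans Finset.card_le_two
        have e1 := (Finset.mem_filter.1 h0).2
        have e2 := (Finset.mem_filter.1 hc).2
        have := hY ((c0 : G)⁻¹ * c) (Y.mul_mem (Y.inv_mem c0.2) c.2) (by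
          calc t * ((c0 : G)⁻¹ * c) * t⁻¹ =
              (c0 : G)⁻¹ * (c0 * (t * (c0 : G)⁻¹ * t⁻¹)) * (c * (t * (c : G)⁻¹ * t⁻¹))⁻¹ * c := by group
            _ = _ := by rw [e1, e2]; group)
        rw [inv_mul_eq_one, inv_mul_eq_iff_eq_mul] at this
        rcases this with h | h <;> simp [h])
  rw [Finset.card_univ, ← Nat.card_eq_fintype_card] at key
  have := Finset.card_le_four (a := (1 : G)) (b := ρ) (c := y) (d := y * ρ)
  omega

end Gam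

open M3a Gam in
/-- the case `N(X)/X ≤ U₄(2).2` is impossible -/
theorem ML.not_gam {z a1 b1 a2 b2 x r1 r2 : G} {Q R1 R2 J K : Subgroup G}
    (h : ML z a1 b1 a2 b2 x r1 r2 Q R1 R2 J K) {R : Fin 4 → Subgroup G} {X : Subgroup G}
    (c : CH r1 r2 (zz z a2 x) R (closure {z, a2, x}) X)
    (m : MF r1 (zz z a2 x) (closure {z, a2, x}) X) (e : 𝒞[r1] ≤ 𝒩(X)) :
    ¬ ∀ i j, i ≠ j → ∀ g ∈ 𝒩(X), Commute g (zz z a2 x i * zz z a2 x j) →
      g ∈ 𝒩(closure {z, a2, x} ⊔ X) := by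
  intro gam
  obtain ⟨-, -, mj⟩ := h
  have j := mj.toJA
  have p0 := M1.ph0 z a1 a2 x
  have p2 := M1.ph2 z a1 a2 x
  have p3 := M1.ph3 z a1 a2 x
  generalize ph z a1 a2 x = φ at *
  have hz : ∀ i, zz z a2 x i = φ (vv i) := fun i => by
    fin_cases i
    exacts [p0.symm, p3.symm, show z * a2⁻¹ * x = φ (vv 2) by
      rw [← p0, ← p2, ← p3, ← phi_neg j, ← j.add, ← j.add]; exact congrArg φ v2,
      show z * a2 * x = _ by rw [← p0, ← p2, ← p3, ← j.add, ← j.add]; rfl]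
  have hE : ∀ a, a ∈ closure {z, a2, x} ↔ ∃ v : V4, v.2.1 = 0 ∧ a = φ v := fun a => by
    refine ⟨fun ha => closure_induction (p := fun a _ => ∃ v : V4, v.2.1 = 0 ∧ a = φ v) ?_
      ⟨0, rfl, (phi_zero j).symm⟩ ?_ ?_ ha, ?_⟩
    · rintro _ (rfl | rfl | rfl)
      exacts [⟨_, rfl, p0.symm⟩, ⟨_, rfl, p2.symm⟩, ⟨_, rfl, p3.symm⟩]
    · rintro _ _ - - ⟨u, hu, rfl⟩ ⟨v, hv, rfl⟩
      exact ⟨u + v, by simp [hu, hv], (j.add u v).symm⟩
    · rintro _ - ⟨u, hu, rfl⟩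
      exact ⟨-u, by simp [hu], (phi_neg j u).symm⟩
    · rintro ⟨⟨a, b, c, d⟩, rfl, rfl⟩
      have : ((a, 0, c, d) : V4) = a • (1, 0, 0, 0) + c • (0, 0, 1, 0) + d • (0, 0, 0, 1) := by simp
      rw [this, j.add, j.add, phi_smul j, phi_smul j, phi_smul j, p0, p2, p3]
      exact mul_mem (mul_mem (pow_mem (subset_closure (by simp)) _) (pow_mem (subset_closure (by simp)) _))
        (pow_mem (subset_closure (by simp)) _)
  generalize closure {z, a2, x} = E at *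
  generalize zz z a2 x = Z at *
  have one : ∀ v, φ v = 1 → v = 0 := fun v hv => j.inj (hv.trans (phi_zero j).symm)
  have rr : r1 * r1 = 1 := (c.q8 0).sq
  obtain ⟨s, sK, M, hM, Mw, MF'⟩ := mj.simK
  have sN := mj.KJ sK
  have Madd : ∀ u v, M (u + v) = M u + M v := fun u v =>
    j.inj (by rw [← hM, j.add, j.add, ← hM, ← hM]; group)
  have MF2 : ∀ v, F (M v) = -1 * F v := fun v => by rw [MF', neg_one_mul]
  have hρ := M1.ac_rf j sN Madd hM (by decide) MF2 mj.ac1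
  rw [Mw] at hρ
  obtain ⟨ρ, eρ⟩ : ∃ ρ, ρ = s * r1 * s⁻¹ := ⟨_, rfl⟩
  have ρK : ρ ∈ K := eρ ▸ K.mul_mem (K.mul_mem sK mj.r1K) (K.inv_mem sK)
  rw [← eρ] at hρ
  have cm : r1 * ρ = ρ * r1 := mj.ext (K.mul_mem mj.r1K ρK) (K.mul_mem ρK mj.r1K) (M1.ac_mul mj.ac1 hρ)
    fun v => by rw [d1]; exact M1.ac_mul hρ mj.ac1 v
  have back : ∀ v, B v (1, 0, 0, 1) = 0 → ∃ u : V4, u.2.1 = 0 ∧ F v = -F u ∧ φ v = s * φ u * s⁻¹ := by
    intro v hv
    obtain ⟨u, rfl⟩ := M1.ac_surj j sN hM v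
    rw [← Mw, M1.B_sim Madd MF2] at hv
    exact ⟨u, d2 u hv, MF' u, (hM u).symm⟩
  have Er : ∀ v : V4, v.2.1 = 0 → φ v ∈ 𝒞[r1] := fun u hu => by
    have := mj.ac1 u
    rw [rE u hu] at this
    exact mem_cent1.2 (mul_inv_eq_iff_eq_mul.1 this).symm
  have EN' : ∀ v, B v (1, 0, 0, 1) = 0 → φ v ∈ 𝒩(cj s X) := fun v hv => by
    obtain ⟨u, h1, -, h2⟩ := back v hv
    rw [h2, ← cj_normalizer, conj_mem_cj]
    exact e (Er u h1)
  have fp : ∀ v : V4, v.2.1 = 0 → F v = 1 → ∀ a ∈ X, Commute (φ v) a → a = 1 ∨ a = r1 := by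
    intro v h1 h2 a ha hc
    rcases m.fpf _ ((hE _).2 ⟨v, h1, rfl⟩) (fun k => by rw [one v k] at h2; revert h2; decide) a ha hc with
      k | k | ⟨i, k | k⟩ | ⟨i, l, il, k⟩
    · exact .inl k
    · exact .inr k
    · rw [hz] at k; exact ((d3 i).1 (j.inj k ▸ h2)).elim
    · rw [hz, ← phi_neg j] at k; exact ((d3 i).2.1 (j.inj k ▸ h2)).elim
    · rw [hz, hz, ← phi_neg j, ← j.add] at k; exact ((d3 i).2.2 l il (j.inj k ▸ h2)).elim
  have fp' : ∀ v, B v (1, 0, 0, 1) = 0 → F v = -1 → ∀ a ∈ cj s X, Commute (φ v) a → a = 1 ∨ a = ρ := by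
    intro v h1 h2 a ha hc
    obtain ⟨u, u1, u2, u3⟩ := back v h1
    obtain ⟨b, hb, rfl⟩ := mem_cj'.1 ha
    rw [u3] at hc
    rcases fp u u1 (neg_inj.1 (u2.symm.trans h2)) b hb (by
      have := hc.eq
      rw [conj_mul, conj_mul] at this
      exact mul_left_cancel (mul_right_cancel this)) with rfl | rfl
    · left; simp
    · exact .inr eρ.symm
  have X4 : ∀ a ∈ X, a ^ 4 = 1 := fun a ha => by
    rw [show a ^ 4 = a * a * (a * a) by simp only [pow_succ, pow_zero, one_mul, mul_assoc]]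
    rcases m.sqr a ha with k | k <;> rw [k]
    exacts [one_mul 1, rr]
  have X4' : ∀ a ∈ cj s X, a ^ 4 = 1 := fun a ha => by
    obtain ⟨b, hb, rfl⟩ := mem_cj'.1 ha
    rw [conj_pow, X4 b hb]; simp
  have ρX : ρ ∉ X := fun k => by
    have := notin X4 k (e (Er (1, 0, 0, 1) rfl)) (j.cube _) (by rw [hρ, ← phi_neg j]; congr 1)
    exact absurd (one _ this) (by decide)
  have rX : r1 ∉ cj s X := fun k => by
    have := notin X4' k (EN' (0, 1, 0, 0) (by decide)) (j.cube _) (by rw [mj.ac1, ← phi_neg j]; congr 1)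
    exact absurd (one _ this) (by decide)
  let D : Subgroup G :=
    { carrier := {a | ∃ v : V4, v.2.1 = 0 ∧ B v (1, 0, 0, 1) = 0 ∧ a = φ v}
      one_mem' := ⟨0, rfl, by decide, (phi_zero j).symm⟩
      mul_mem' := by
        rintro _ _ ⟨u, u1, u2, rfl⟩ ⟨v, v1, v2, rfl⟩
        exact ⟨u + v, by simp [u1, v1], d4 u v u2 v2, (j.add u v).symm⟩
      inv_mem' := by
        rintro _ ⟨u, u1, u2, rfl⟩
        exact ⟨-u, by simp [u1], d5 u u2, (phi_neg j u).symm⟩ }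
  have gen : ∀ Y T : Subgroup G, Y ≤ cj s X → D ≤ 𝒩(Y) → (∀ v : V4, v.2.1 = 0 → B v (1, 0, 0, 1) = 0 →
      v ≠ 0 → ∀ a ∈ Y, Commute (φ v) a → a ∈ T) → Y ≤ T := by
    intro Y T h1 h2 h3
    refine H46.le_of_forall_element (p := 3) (A := D) ?_ ?_ ?_ (no3 fun a ha => X4' a (h1 ha)) h2 ?_
    · rintro ⟨_, v, v1, v2, rfl⟩
      exact ⟨1, Subtype.ext (j.cube v)⟩
    · refine abelian_iff.2 ?_
      rintro _ ⟨u, -, -, rfl⟩ _ ⟨v, -, -, rfl⟩
      exact phi_comm j v u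
    · intro hc
      obtain ⟨⟨_, v, v1, v2, rfl⟩, hg⟩ := IsCyclic.exists_monoid_generator (α := D)
      obtain ⟨k, hk⟩ := hg ⟨φ (0, 0, 1, 0), _, rfl, by decide, rfl⟩
      obtain ⟨l, hl⟩ := hg ⟨φ (1, 0, 0, -1), _, rfl, by decide, rfl⟩
      have hk' : φ v ^ k = φ (0, 0, 1, 0) := congrArg Subtype.val hk
      have hl' : φ v ^ l = φ (1, 0, 0, -1) := congrArg Subtype.val hl
      rw [← M1.pw_cast (j.cube v), ← phi_smul j] at hk' hl'
      exact d6 v _ _ (j.inj hk') (j.inj hl')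
    · rintro _ ⟨v, v1, v2, rfl⟩ h0 a ⟨ha, hc⟩
      exact h3 v v1 v2 (fun k => h0 (k ▸ phi_zero j)) a ha (mem_cent1.1 hc).symm
  have DX' : D ≤ 𝒩(cj s X) := by rintro _ ⟨v, -, v2, rfl⟩; exact EN' v v2
  have Dr : D ≤ 𝒞[r1] := by rintro _ ⟨v, v1, -, rfl⟩; exact Er v v1
  have hI : X ⊓ cj s X ≤ ⊥ := gen _ _ inf_le_right (norm_inf (Dr.trans e) DX') fun v v1 v2 v0 a ha hc => by
    rcases d7 v v1 v2 with k | k | ⟨k, -⟩
    · exact (v0 k).elim
    · exact (fp' v v2 k a ha.2 hc).resolve_right fun k => ρX (k ▸ ha.1)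
    · exact (fp v v1 k a ha.1 hc).resolve_right fun k => rX (k ▸ ha.2)
  have ρρ : ρ * ρ = 1 := by rw [eρ, conj_mul, rr]; simp
  let T : Subgroup G :=
    { carrier := {a | a = 1 ∨ a = ρ}
      one_mem' := .inl rfl
      mul_mem' := by rintro _ _ (rfl | rfl) (rfl | rfl) <;> simp [ρρ]
      inv_mem' := by
        rintro _ (rfl | rfl)
        · simp
        · exact .inr (inv_eq_of_mul_eq_one_right ρρ) }
  have hY : cj s X ⊓ 𝒞[r1] ≤ T := gen _ _ inf_le_left (norm_inf DX' (norm_of_le Dr))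
    fun v v1 v2 v0 y hy hc => by
    rcases d7 v v1 v2 with k | k | ⟨-, i, l, il, k⟩
    · exact (v0 k).elim
    · exact fp' v v2 k y hy.1 hc
    have yN := gam i l il y (e hy.2) (by
      rw [hz, hz, ← j.add]
      rcases k with rfl | rfl
      · exact hc.symm
      · rw [phi_neg j] at hc; exact (Commute.inv_left_iff.1 hc).symm)
    have aE : φ (0, 0, 1, 0) ∈ E ⊔ X := le_sup_left (a := E) ((hE _).2 ⟨_, rfl, rfl⟩)
    have t1 := (E ⊔ X).mul_mem (conj_mem_of_norm (zpowers_le.2 yN) (mem_zpowers y) aE) ((E ⊔ X).inv_mem aE)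
    have t2 : y * φ (0, 0, 1, 0) * y⁻¹ * (φ (0, 0, 1, 0))⁻¹ ∈ cj s X := by
      have := (cj s X).mul_mem hy.1 (conj_mem_of_norm (zpowers_le.2 (EN' (0, 0, 1, 0) (by decide)))
        (mem_zpowers _) ((cj s X).inv_mem hy.1))
      simpa only [mul_assoc] using this
    have EN : E ≤ 𝒩(X) := fun a ha => by obtain ⟨u, hu, rfl⟩ := (hE a).1 ha; exact e (Er u hu)
    obtain ⟨e0, he0, a, ha, k2⟩ := (H23.mem_sup_of_le_normalizer_right EN).1 t1
    have t3 := pow_mem_mul (EN he0) ha 4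
    obtain ⟨u, -, rfl⟩ := (hE e0).1 he0
    rw [k2, X4' _ t2, mul_one, inv_mem_iff, pow_succ, j.cube, one_mul] at t3
    have t4 : _ = (1 : G) := hI ⟨k2 ▸ X.mul_mem t3 ha, t2⟩
    refine fp' (0, 0, 1, 0) (by decide) (by decide) y hy.1 ?_
    rw [mul_inv_eq_one, mul_inv_eq_iff_eq_mul] at t4
    exact t4.symm
  refine fin_arg (Y := cj s X) (ρ := ρ) (t := r1) (by rw [card_cj, m.card]; norm_num) (fun a ha => ?_) rr ?_
    fun a ha k => hY ⟨ha, mem_cent1.2 (mul_inv_eq_iff_eq_mul.1 k).symm⟩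
  · obtain ⟨b, hb, rfl⟩ := mem_cj'.1 ha
    rw [conj_mul, eρ]
    rcases m.sqr b hb with k | k <;> rw [k] <;> simp
  · rw [← cj_normalizer]
    refine cj_mono s e ?_
    rw [cj_cent1, ← eρ]
    exact mem_cent1.2 cm

end Cfsg.Agent.T3
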