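import Cfsg.Agent.T3.Mod3a

/-! Project T3: the isometries of `F₂⁸` modulo `SU₄(2)` on both sides (data found by a search, checked here). -/

set_option autoImplicit false
set_option maxRecDepth 100000

namespace Cfsg.Agent.T3.C49

open H14

/-- the generators of `U0` -/
def Ks : List ℕ := [cK1, cK2, cK3, cK4]

/-- the forbidden diagonal elements -/
def FL : List ℕ :=
  [0x40c030200c080201, 0xc08010300c080201, 0x40c010300c080201, 0xc0803020040c0201, 0x40c03020040c0201, 0xc0801030040c0201, 0x40c0302008040302,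
  0xc080103008040302, 0x40c0103008040302, 0x40c020100c080302, 0x804010300c080302, 0xc0802010040c0302, 0x40c02010040c0302, 0x80403020040c0302,
  0x80401030040c0302, 0xc080302008040103, 0x40c0302008040103, 0xc080103008040103, 0xc08020100c080103, 0x40c020100c080103, 0x804030200c080103,
  0x804010300c080103, 0xc0802010040c0103, 0x80403020040c0103]

/-- the conjugates of `cC0` by the powers of `cD` -/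
noncomputable def cC (k : ℕ) : ℕ := nthD [0x9c856c25fc58f201, 0x948964295ca8f201, 0x988d682dacf8f201] 0 k

/-- the word `w.tail` conjugates `Z 0` to the forbidden element number `w.head` -/
noncomputable def fb (gs w : List ℕ) : Bool := force (wd gs w.tail) fun G =>
  Nat.beq (cmp G (zc 0)) (force (nthD FL 0x40c030200c080201 (w.headD 0)) fun F => cmp F G)

theorem FL_ok : allL FL (fun F => okc F && allN 4 fun i => Nat.beq (cmp F (zc i)) (cmp (zc i) F) &&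
    !Nat.beq F (zc i) && !Nat.beq (cmp F (zc i)) idc) = true := by decide +kernel

/-- words that move the vector number 0 -/
def W0 : List (List ℕ) :=
  [[], [2], [3], [2, 0], [3, 0], [2, 1], [2, 2], [3, 2], [2, 3], [2, 0, 0], [3, 0, 0], [2, 1, 0], [2, 2, 0], [3, 2, 0], [2, 3, 0], [2, 0, 1], [3, 0,
  1], [2, 1, 1], [2, 2, 1], [3, 2, 1], [2, 3, 1], [2, 0, 2], [3, 0, 2], [2, 1, 2], [2, 2, 2], [3, 2, 2], [2, 0, 3], [3, 0, 3], [2, 2, 3], [3, 2, 3],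
  [2, 0, 0, 0], [3, 0, 0, 0], [2, 1, 0, 0], [2, 2, 0, 0], [2, 3, 0, 0], [2, 0, 1, 0], [3, 0, 1, 0], [2, 2, 1, 0], [3, 2, 1, 0], [2, 3, 1, 0], [3, 0,
  2, 0], [2, 1, 2, 0], [2, 2, 2, 0], [3, 2, 2, 0], [2, 0, 3, 0], [3, 0, 3, 0], [2, 2, 3, 0], [3, 2, 3, 0], [2, 0, 0, 1], [3, 0, 0, 1], [2, 1, 0, 1],
  [2, 2, 0, 1], [3, 2, 0, 1], [2, 0, 1, 1], [3, 0, 1, 1], [3, 2, 1, 1], [2, 3, 1, 1], [2, 0, 2, 1], [3, 0, 2, 1], [2, 1, 2, 1], [2, 0, 3, 1], [3, 0,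
  3, 1], [2, 2, 3, 1], [3, 2, 3, 1], [3, 0, 0, 2], [3, 2, 0, 2], [3, 0, 1, 2], [2, 1, 1, 2], [2, 3, 1, 2], [2, 1, 2, 2], [3, 0, 3, 2], [2, 2, 3, 2],
  [3, 2, 3, 2], [2, 0, 0, 3], [3, 2, 0, 3], [2, 2, 2, 3], [2, 2, 0, 0, 0], [3, 2, 1, 0, 0], [2, 3, 1, 0, 0], [3, 0, 2, 0, 0], [2, 2, 2, 0, 0], [3, 2,
  2, 0, 0], [2, 0, 3, 0, 0], [3, 0, 3, 0, 0], [3, 2, 3, 0, 0], [3, 0, 0, 1, 0], [2, 1, 0, 1, 0], [2, 2, 0, 1, 0], [3, 0, 2, 1, 0], [2, 1, 2, 1, 0],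
  [3, 0, 3, 1, 0], [3, 2, 3, 1, 0], [3, 2, 3, 2, 0], [3, 0, 1, 0, 1], [2, 3, 1, 0, 1], [3, 2, 3, 0, 1], [2, 0, 0, 1, 1], [3, 0, 0, 1, 1], [3, 2, 0, 1,
  1], [2, 1, 2, 1, 1], [2, 0, 3, 1, 1], [2, 2, 3, 1, 1], [3, 2, 3, 1, 1], [3, 0, 0, 2, 1], [3, 0, 1, 2, 1], [2, 3, 1, 2, 1], [2, 0, 1, 0, 2], [2, 1,
  0, 1, 2], [3, 0, 1, 1, 2], [2, 0, 2, 1, 2], [3, 2, 3, 1, 2], [3, 0, 1, 2, 2], [2, 3, 1, 2, 2], [2, 0, 0, 0, 3], [2, 3, 1, 2, 3], [2, 3, 1, 0, 0, 0],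
  [2, 0, 3, 0, 0, 0], [3, 2, 3, 2, 0, 0], [3, 0, 1, 2, 1, 0], [3, 2, 3, 0, 1, 1]]

/-- words that move the vector number 1 -/
def W1 : List (List ℕ) :=
  [[], [1], [1, 0], [1, 1], [1, 0, 0], [1, 1, 0], [1, 0, 1], [1, 1, 1], [1, 0, 0, 0], [1, 1, 0, 0], [1, 0, 1, 0], [1, 1, 1, 0], [1, 1, 0, 1], [1, 0,
  1, 1], [1, 0, 1, 0, 0], [1, 1, 1, 0, 0], [1, 0, 0, 0, 1], [1, 0, 1, 0, 1], [1, 1, 0, 1, 1], [1, 0, 1, 0, 0, 0], [1, 0, 0, 0, 1, 0], [1, 1, 0, 1, 1,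
  0], [1, 0, 1, 0, 0, 1], [1, 0, 0, 0, 1, 1], [1, 0, 1, 0, 1, 1], [1, 0, 1, 0, 1, 1, 0], [1, 0, 1, 0, 1, 1, 1]]

/-- words that move the vector number 2 -/
def W2 : List (List ℕ) :=
  [[], [0], [1], [0, 0], [1, 0], [0, 1], [0, 0, 0], [1, 0, 0], [0, 0, 1], [1, 0, 1], [0, 1, 1], [0, 0, 1, 0], [1, 0, 1, 0], [0, 1, 1, 0], [0, 0, 0,
  1], [1, 0, 0, 1], [0, 0, 1, 1], [1, 0, 1, 1], [0, 1, 1, 1], [1, 0, 1, 0, 0], [0, 0, 0, 1, 0], [1, 0, 0, 1, 0], [0, 0, 1, 1, 0], [1, 0, 1, 1, 0], [0,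
  1, 1, 1, 0], [1, 0, 0, 1, 1], [0, 0, 1, 1, 1], [1, 0, 1, 0, 0, 0], [1, 0, 0, 1, 0, 0], [1, 0, 1, 1, 0, 0], [0, 1, 1, 1, 0, 0], [1, 0, 0, 1, 1, 0],
  [0, 0, 0, 1, 0, 1], [1, 0, 0, 1, 0, 0, 0], [0, 1, 1, 1, 0, 0, 0], [0, 0, 0, 1, 0, 1, 0]]

/-- words that move the vector number 3 -/
def W3 : List (List ℕ) :=
  [[], [0, 1, 0, 1], [0, 0, 0, 1, 1, 0], [1, 1]]

/-- words that move the vector number 4 -/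
def W4 : List (List ℕ) :=
  [[], [1, 1], [0, 1, 0, 1], [0, 0, 0, 1, 1, 0], [1, 1, 0, 1, 0, 1], [0, 1, 0, 1, 1, 1]]

/-- partial frames -/
def S3 : List (List ℕ) :=
  [[4, 2, 1]]

/-- partial frames -/
def S4 : List (List ℕ) :=
  [[8, 4, 2, 1], [12, 4, 2, 1], [88, 4, 2, 1], [92, 4, 2, 1], [104, 4, 2, 1], [108, 4, 2, 1], [120, 4, 2, 1], [124, 4, 2, 1]]

/-- partial frames -/
def S5 : List (List ℕ) :=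
  [[16, 8, 4, 2, 1], [16, 12, 4, 2, 1], [16, 88, 4, 2, 1], [100, 88, 4, 2, 1], [116, 88, 4, 2, 1], [16, 92, 4, 2, 1], [100, 92, 4, 2, 1], [116, 92, 4,
  2, 1], [32, 104, 4, 2, 1], [84, 104, 4, 2, 1], [116, 104, 4, 2, 1], [32, 108, 4, 2, 1], [84, 108, 4, 2, 1], [116, 108, 4, 2, 1], [48, 120, 4, 2, 1],
  [84, 120, 4, 2, 1], [100, 120, 4, 2, 1], [48, 124, 4, 2, 1], [84, 124, 4, 2, 1], [100, 124, 4, 2, 1]]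

/-- partial frames -/
def S6 : List (List ℕ) :=
  [[32, 16, 8, 4, 2, 1], [48, 16, 8, 4, 2, 1], [32, 16, 12, 4, 2, 1], [48, 16, 12, 4, 2, 1], [100, 16, 88, 4, 2, 1], [116, 16, 88, 4, 2, 1], [16, 100,
  88, 4, 2, 1], [116, 100, 88, 4, 2, 1], [16, 116, 88, 4, 2, 1], [100, 116, 88, 4, 2, 1], [100, 16, 92, 4, 2, 1], [116, 16, 92, 4, 2, 1], [16, 100,
  92, 4, 2, 1], [116, 100, 92, 4, 2, 1], [16, 116, 92, 4, 2, 1], [100, 116, 92, 4, 2, 1], [84, 32, 104, 4, 2, 1], [116, 32, 104, 4, 2, 1], [32, 84,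
  104, 4, 2, 1], [116, 84, 104, 4, 2, 1], [32, 116, 104, 4, 2, 1], [84, 116, 104, 4, 2, 1], [84, 32, 108, 4, 2, 1], [116, 32, 108, 4, 2, 1], [32, 84,
  108, 4, 2, 1], [116, 84, 108, 4, 2, 1], [32, 116, 108, 4, 2, 1], [84, 116, 108, 4, 2, 1], [84, 48, 120, 4, 2, 1], [100, 48, 120, 4, 2, 1], [48, 84,
  120, 4, 2, 1], [100, 84, 120, 4, 2, 1], [48, 100, 120, 4, 2, 1], [84, 100, 120, 4, 2, 1], [84, 48, 124, 4, 2, 1], [100, 48, 124, 4, 2, 1], [48, 84,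
  124, 4, 2, 1], [100, 84, 124, 4, 2, 1], [48, 100, 124, 4, 2, 1], [84, 100, 124, 4, 2, 1]]

/-- partial frames -/
def S7 : List (List ℕ) :=
  [[64, 32, 16, 8, 4, 2, 1], [128, 32, 16, 8, 4, 2, 1], [192, 32, 16, 8, 4, 2, 1], [64, 48, 16, 8, 4, 2, 1], [128, 48, 16, 8, 4, 2, 1], [192, 48, 16,
  8, 4, 2, 1], [64, 32, 16, 12, 4, 2, 1], [128, 32, 16, 12, 4, 2, 1], [192, 32, 16, 12, 4, 2, 1], [64, 48, 16, 12, 4, 2, 1], [128, 48, 16, 12, 4, 2,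
  1], [192, 48, 16, 12, 4, 2, 1], [64, 100, 16, 88, 4, 2, 1], [148, 100, 16, 88, 4, 2, 1], [212, 100, 16, 88, 4, 2, 1], [64, 116, 16, 88, 4, 2, 1],
  [148, 116, 16, 88, 4, 2, 1], [212, 116, 16, 88, 4, 2, 1], [64, 16, 100, 88, 4, 2, 1], [148, 16, 100, 88, 4, 2, 1], [212, 16, 100, 88, 4, 2, 1], [64,
  116, 100, 88, 4, 2, 1], [148, 116, 100, 88, 4, 2, 1], [212, 116, 100, 88, 4, 2, 1], [64, 16, 116, 88, 4, 2, 1], [148, 16, 116, 88, 4, 2, 1], [212,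
  16, 116, 88, 4, 2, 1], [64, 100, 116, 88, 4, 2, 1], [148, 100, 116, 88, 4, 2, 1], [212, 100, 116, 88, 4, 2, 1], [64, 100, 16, 92, 4, 2, 1], [148,
  100, 16, 92, 4, 2, 1], [212, 100, 16, 92, 4, 2, 1], [64, 116, 16, 92, 4, 2, 1], [148, 116, 16, 92, 4, 2, 1], [212, 116, 16, 92, 4, 2, 1], [64, 16,
  100, 92, 4, 2, 1], [148, 16, 100, 92, 4, 2, 1], [212, 16, 100, 92, 4, 2, 1], [64, 116, 100, 92, 4, 2, 1], [148, 116, 100, 92, 4, 2, 1], [212, 116,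
  100, 92, 4, 2, 1], [64, 16, 116, 92, 4, 2, 1], [148, 16, 116, 92, 4, 2, 1], [212, 16, 116, 92, 4, 2, 1], [64, 100, 116, 92, 4, 2, 1], [148, 100,
  116, 92, 4, 2, 1], [212, 100, 116, 92, 4, 2, 1], [64, 84, 32, 104, 4, 2, 1], [164, 84, 32, 104, 4, 2, 1], [228, 84, 32, 104, 4, 2, 1], [64, 116, 32,
  104, 4, 2, 1], [164, 116, 32, 104, 4, 2, 1], [228, 116, 32, 104, 4, 2, 1], [64, 32, 84, 104, 4, 2, 1], [164, 32, 84, 104, 4, 2, 1], [228, 32, 84,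
  104, 4, 2, 1], [64, 116, 84, 104, 4, 2, 1], [164, 116, 84, 104, 4, 2, 1], [228, 116, 84, 104, 4, 2, 1], [64, 32, 116, 104, 4, 2, 1], [164, 32, 116,
  104, 4, 2, 1], [228, 32, 116, 104, 4, 2, 1], [64, 84, 116, 104, 4, 2, 1], [164, 84, 116, 104, 4, 2, 1], [228, 84, 116, 104, 4, 2, 1], [64, 84, 32,
  108, 4, 2, 1], [164, 84, 32, 108, 4, 2, 1], [228, 84, 32, 108, 4, 2, 1], [64, 116, 32, 108, 4, 2, 1], [164, 116, 32, 108, 4, 2, 1], [228, 116, 32,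
  108, 4, 2, 1], [64, 32, 84, 108, 4, 2, 1], [164, 32, 84, 108, 4, 2, 1], [228, 32, 84, 108, 4, 2, 1], [64, 116, 84, 108, 4, 2, 1], [164, 116, 84,
  108, 4, 2, 1], [228, 116, 84, 108, 4, 2, 1], [64, 32, 116, 108, 4, 2, 1], [164, 32, 116, 108, 4, 2, 1], [228, 32, 116, 108, 4, 2, 1], [64, 84, 116,
  108, 4, 2, 1], [164, 84, 116, 108, 4, 2, 1], [228, 84, 116, 108, 4, 2, 1], [64, 84, 48, 120, 4, 2, 1], [180, 84, 48, 120, 4, 2, 1], [244, 84, 48,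
  120, 4, 2, 1], [64, 100, 48, 120, 4, 2, 1], [180, 100, 48, 120, 4, 2, 1], [244, 100, 48, 120, 4, 2, 1], [64, 48, 84, 120, 4, 2, 1], [180, 48, 84,
  120, 4, 2, 1], [244, 48, 84, 120, 4, 2, 1], [64, 100, 84, 120, 4, 2, 1], [180, 100, 84, 120, 4, 2, 1], [244, 100, 84, 120, 4, 2, 1], [64, 48, 100,
  120, 4, 2, 1], [180, 48, 100, 120, 4, 2, 1], [244, 48, 100, 120, 4, 2, 1], [64, 84, 100, 120, 4, 2, 1], [180, 84, 100, 120, 4, 2, 1], [244, 84, 100,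
  120, 4, 2, 1], [64, 84, 48, 124, 4, 2, 1], [180, 84, 48, 124, 4, 2, 1], [244, 84, 48, 124, 4, 2, 1], [64, 100, 48, 124, 4, 2, 1], [180, 100, 48,
  124, 4, 2, 1], [244, 100, 48, 124, 4, 2, 1], [64, 48, 84, 124, 4, 2, 1], [180, 48, 84, 124, 4, 2, 1], [244, 48, 84, 124, 4, 2, 1], [64, 100, 84,
  124, 4, 2, 1], [180, 100, 84, 124, 4, 2, 1], [244, 100, 84, 124, 4, 2, 1], [64, 48, 100, 124, 4, 2, 1], [180, 48, 100, 124, 4, 2, 1], [244, 48, 100,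
  124, 4, 2, 1], [64, 84, 100, 124, 4, 2, 1], [180, 84, 100, 124, 4, 2, 1], [244, 84, 100, 124, 4, 2, 1]]

/-- partial frames -/
def S8 : List (List ℕ) :=
  [[128, 64, 32, 16, 8, 4, 2, 1], [192, 64, 32, 16, 8, 4, 2, 1], [64, 128, 32, 16, 8, 4, 2, 1], [192, 128, 32, 16, 8, 4, 2, 1], [64, 192, 32, 16, 8,
  4, 2, 1], [128, 192, 32, 16, 8, 4, 2, 1], [128, 64, 48, 16, 8, 4, 2, 1], [192, 64, 48, 16, 8, 4, 2, 1], [64, 128, 48, 16, 8, 4, 2, 1], [192, 128,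
  48, 16, 8, 4, 2, 1], [64, 192, 48, 16, 8, 4, 2, 1], [128, 192, 48, 16, 8, 4, 2, 1], [128, 64, 32, 16, 12, 4, 2, 1], [192, 64, 32, 16, 12, 4, 2, 1],
  [64, 128, 32, 16, 12, 4, 2, 1], [192, 128, 32, 16, 12, 4, 2, 1], [64, 192, 32, 16, 12, 4, 2, 1], [128, 192, 32, 16, 12, 4, 2, 1], [128, 64, 48, 16,
  12, 4, 2, 1], [192, 64, 48, 16, 12, 4, 2, 1], [64, 128, 48, 16, 12, 4, 2, 1], [192, 128, 48, 16, 12, 4, 2, 1], [64, 192, 48, 16, 12, 4, 2, 1], [128,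
  192, 48, 16, 12, 4, 2, 1], [148, 64, 100, 16, 88, 4, 2, 1], [212, 64, 100, 16, 88, 4, 2, 1], [64, 148, 100, 16, 88, 4, 2, 1], [212, 148, 100, 16,
  88, 4, 2, 1], [64, 212, 100, 16, 88, 4, 2, 1], [148, 212, 100, 16, 88, 4, 2, 1], [148, 64, 116, 16, 88, 4, 2, 1], [212, 64, 116, 16, 88, 4, 2, 1],
  [64, 148, 116, 16, 88, 4, 2, 1], [212, 148, 116, 16, 88, 4, 2, 1], [64, 212, 116, 16, 88, 4, 2, 1], [148, 212, 116, 16, 88, 4, 2, 1], [148, 64, 16,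
  100, 88, 4, 2, 1], [212, 64, 16, 100, 88, 4, 2, 1], [64, 148, 16, 100, 88, 4, 2, 1], [212, 148, 16, 100, 88, 4, 2, 1], [64, 212, 16, 100, 88, 4, 2,
  1], [148, 212, 16, 100, 88, 4, 2, 1], [148, 64, 116, 100, 88, 4, 2, 1], [212, 64, 116, 100, 88, 4, 2, 1], [64, 148, 116, 100, 88, 4, 2, 1], [212,
  148, 116, 100, 88, 4, 2, 1], [64, 212, 116, 100, 88, 4, 2, 1], [148, 212, 116, 100, 88, 4, 2, 1], [148, 64, 16, 116, 88, 4, 2, 1], [212, 64, 16,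
  116, 88, 4, 2, 1], [64, 148, 16, 116, 88, 4, 2, 1], [212, 148, 16, 116, 88, 4, 2, 1], [64, 212, 16, 116, 88, 4, 2, 1], [148, 212, 16, 116, 88, 4, 2,
  1], [148, 64, 100, 116, 88, 4, 2, 1], [212, 64, 100, 116, 88, 4, 2, 1], [64, 148, 100, 116, 88, 4, 2, 1], [212, 148, 100, 116, 88, 4, 2, 1], [64,
  212, 100, 116, 88, 4, 2, 1], [148, 212, 100, 116, 88, 4, 2, 1], [148, 64, 100, 16, 92, 4, 2, 1], [212, 64, 100, 16, 92, 4, 2, 1], [64, 148, 100, 16,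
  92, 4, 2, 1], [212, 148, 100, 16, 92, 4, 2, 1], [64, 212, 100, 16, 92, 4, 2, 1], [148, 212, 100, 16, 92, 4, 2, 1], [148, 64, 116, 16, 92, 4, 2, 1],
  [212, 64, 116, 16, 92, 4, 2, 1], [64, 148, 116, 16, 92, 4, 2, 1], [212, 148, 116, 16, 92, 4, 2, 1], [64, 212, 116, 16, 92, 4, 2, 1], [148, 212, 116,
  16, 92, 4, 2, 1], [148, 64, 16, 100, 92, 4, 2, 1], [212, 64, 16, 100, 92, 4, 2, 1], [64, 148, 16, 100, 92, 4, 2, 1], [212, 148, 16, 100, 92, 4, 2,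
  1], [64, 212, 16, 100, 92, 4, 2, 1], [148, 212, 16, 100, 92, 4, 2, 1], [148, 64, 116, 100, 92, 4, 2, 1], [212, 64, 116, 100, 92, 4, 2, 1], [64, 148,
  116, 100, 92, 4, 2, 1], [212, 148, 116, 100, 92, 4, 2, 1], [64, 212, 116, 100, 92, 4, 2, 1], [148, 212, 116, 100, 92, 4, 2, 1], [148, 64, 16, 116,
  92, 4, 2, 1], [212, 64, 16, 116, 92, 4, 2, 1], [64, 148, 16, 116, 92, 4, 2, 1], [212, 148, 16, 116, 92, 4, 2, 1], [64, 212, 16, 116, 92, 4, 2, 1],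
  [148, 212, 16, 116, 92, 4, 2, 1], [148, 64, 100, 116, 92, 4, 2, 1], [212, 64, 100, 116, 92, 4, 2, 1], [64, 148, 100, 116, 92, 4, 2, 1], [212, 148,
  100, 116, 92, 4, 2, 1], [64, 212, 100, 116, 92, 4, 2, 1], [148, 212, 100, 116, 92, 4, 2, 1], [164, 64, 84, 32, 104, 4, 2, 1], [228, 64, 84, 32, 104,
  4, 2, 1], [64, 164, 84, 32, 104, 4, 2, 1], [228, 164, 84, 32, 104, 4, 2, 1], [64, 228, 84, 32, 104, 4, 2, 1], [164, 228, 84, 32, 104, 4, 2, 1],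
  [164, 64, 116, 32, 104, 4, 2, 1], [228, 64, 116, 32, 104, 4, 2, 1], [64, 164, 116, 32, 104, 4, 2, 1], [228, 164, 116, 32, 104, 4, 2, 1], [64, 228,
  116, 32, 104, 4, 2, 1], [164, 228, 116, 32, 104, 4, 2, 1], [164, 64, 32, 84, 104, 4, 2, 1], [228, 64, 32, 84, 104, 4, 2, 1], [64, 164, 32, 84, 104,
  4, 2, 1], [228, 164, 32, 84, 104, 4, 2, 1], [64, 228, 32, 84, 104, 4, 2, 1], [164, 228, 32, 84, 104, 4, 2, 1], [164, 64, 116, 84, 104, 4, 2, 1],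
  [228, 64, 116, 84, 104, 4, 2, 1], [64, 164, 116, 84, 104, 4, 2, 1], [228, 164, 116, 84, 104, 4, 2, 1], [64, 228, 116, 84, 104, 4, 2, 1], [164, 228,
  116, 84, 104, 4, 2, 1], [164, 64, 32, 116, 104, 4, 2, 1], [228, 64, 32, 116, 104, 4, 2, 1], [64, 164, 32, 116, 104, 4, 2, 1], [228, 164, 32, 116,
  104, 4, 2, 1], [64, 228, 32, 116, 104, 4, 2, 1], [164, 228, 32, 116, 104, 4, 2, 1], [164, 64, 84, 116, 104, 4, 2, 1], [228, 64, 84, 116, 104, 4, 2,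
  1], [64, 164, 84, 116, 104, 4, 2, 1], [228, 164, 84, 116, 104, 4, 2, 1], [64, 228, 84, 116, 104, 4, 2, 1], [164, 228, 84, 116, 104, 4, 2, 1], [164,
  64, 84, 32, 108, 4, 2, 1], [228, 64, 84, 32, 108, 4, 2, 1], [64, 164, 84, 32, 108, 4, 2, 1], [228, 164, 84, 32, 108, 4, 2, 1], [64, 228, 84, 32,
  108, 4, 2, 1], [164, 228, 84, 32, 108, 4, 2, 1], [164, 64, 116, 32, 108, 4, 2, 1], [228, 64, 116, 32, 108, 4, 2, 1], [64, 164, 116, 32, 108, 4, 2,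
  1], [228, 164, 116, 32, 108, 4, 2, 1], [64, 228, 116, 32, 108, 4, 2, 1], [164, 228, 116, 32, 108, 4, 2, 1], [164, 64, 32, 84, 108, 4, 2, 1], [228,
  64, 32, 84, 108, 4, 2, 1], [64, 164, 32, 84, 108, 4, 2, 1], [228, 164, 32, 84, 108, 4, 2, 1], [64, 228, 32, 84, 108, 4, 2, 1], [164, 228, 32, 84,
  108, 4, 2, 1], [164, 64, 116, 84, 108, 4, 2, 1], [228, 64, 116, 84, 108, 4, 2, 1], [64, 164, 116, 84, 108, 4, 2, 1], [228, 164, 116, 84, 108, 4, 2,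
  1], [64, 228, 116, 84, 108, 4, 2, 1], [164, 228, 116, 84, 108, 4, 2, 1], [164, 64, 32, 116, 108, 4, 2, 1], [228, 64, 32, 116, 108, 4, 2, 1], [64,
  164, 32, 116, 108, 4, 2, 1], [228, 164, 32, 116, 108, 4, 2, 1], [64, 228, 32, 116, 108, 4, 2, 1], [164, 228, 32, 116, 108, 4, 2, 1], [164, 64, 84,
  116, 108, 4, 2, 1], [228, 64, 84, 116, 108, 4, 2, 1], [64, 164, 84, 116, 108, 4, 2, 1], [228, 164, 84, 116, 108, 4, 2, 1], [64, 228, 84, 116, 108,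
  4, 2, 1], [164, 228, 84, 116, 108, 4, 2, 1], [180, 64, 84, 48, 120, 4, 2, 1], [244, 64, 84, 48, 120, 4, 2, 1], [64, 180, 84, 48, 120, 4, 2, 1],
  [244, 180, 84, 48, 120, 4, 2, 1], [64, 244, 84, 48, 120, 4, 2, 1], [180, 244, 84, 48, 120, 4, 2, 1], [180, 64, 100, 48, 120, 4, 2, 1], [244, 64,
  100, 48, 120, 4, 2, 1], [64, 180, 100, 48, 120, 4, 2, 1], [244, 180, 100, 48, 120, 4, 2, 1], [64, 244, 100, 48, 120, 4, 2, 1], [180, 244, 100, 48,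
  120, 4, 2, 1], [180, 64, 48, 84, 120, 4, 2, 1], [244, 64, 48, 84, 120, 4, 2, 1], [64, 180, 48, 84, 120, 4, 2, 1], [244, 180, 48, 84, 120, 4, 2, 1],
  [64, 244, 48, 84, 120, 4, 2, 1], [180, 244, 48, 84, 120, 4, 2, 1], [180, 64, 100, 84, 120, 4, 2, 1], [244, 64, 100, 84, 120, 4, 2, 1], [64, 180,
  100, 84, 120, 4, 2, 1], [244, 180, 100, 84, 120, 4, 2, 1], [64, 244, 100, 84, 120, 4, 2, 1], [180, 244, 100, 84, 120, 4, 2, 1], [180, 64, 48, 100,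
  120, 4, 2, 1], [244, 64, 48, 100, 120, 4, 2, 1], [64, 180, 48, 100, 120, 4, 2, 1], [244, 180, 48, 100, 120, 4, 2, 1], [64, 244, 48, 100, 120, 4, 2,
  1], [180, 244, 48, 100, 120, 4, 2, 1], [180, 64, 84, 100, 120, 4, 2, 1], [244, 64, 84, 100, 120, 4, 2, 1], [64, 180, 84, 100, 120, 4, 2, 1], [244,
  180, 84, 100, 120, 4, 2, 1], [64, 244, 84, 100, 120, 4, 2, 1], [180, 244, 84, 100, 120, 4, 2, 1], [180, 64, 84, 48, 124, 4, 2, 1], [244, 64, 84, 48,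
  124, 4, 2, 1], [64, 180, 84, 48, 124, 4, 2, 1], [244, 180, 84, 48, 124, 4, 2, 1], [64, 244, 84, 48, 124, 4, 2, 1], [180, 244, 84, 48, 124, 4, 2, 1],
  [180, 64, 100, 48, 124, 4, 2, 1], [244, 64, 100, 48, 124, 4, 2, 1], [64, 180, 100, 48, 124, 4, 2, 1], [244, 180, 100, 48, 124, 4, 2, 1], [64, 244,
  100, 48, 124, 4, 2, 1], [180, 244, 100, 48, 124, 4, 2, 1], [180, 64, 48, 84, 124, 4, 2, 1], [244, 64, 48, 84, 124, 4, 2, 1], [64, 180, 48, 84, 124,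
  4, 2, 1], [244, 180, 48, 84, 124, 4, 2, 1], [64, 244, 48, 84, 124, 4, 2, 1], [180, 244, 48, 84, 124, 4, 2, 1], [180, 64, 100, 84, 124, 4, 2, 1],
  [244, 64, 100, 84, 124, 4, 2, 1], [64, 180, 100, 84, 124, 4, 2, 1], [244, 180, 100, 84, 124, 4, 2, 1], [64, 244, 100, 84, 124, 4, 2, 1], [180, 244,
  100, 84, 124, 4, 2, 1], [180, 64, 48, 100, 124, 4, 2, 1], [244, 64, 48, 100, 124, 4, 2, 1], [64, 180, 48, 100, 124, 4, 2, 1], [244, 180, 48, 100,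
  124, 4, 2, 1], [64, 244, 48, 100, 124, 4, 2, 1], [180, 244, 48, 100, 124, 4, 2, 1], [180, 64, 84, 100, 124, 4, 2, 1], [244, 64, 84, 100, 124, 4, 2,
  1], [64, 180, 84, 100, 124, 4, 2, 1], [244, 180, 84, 100, 124, 4, 2, 1], [64, 244, 84, 100, 124, 4, 2, 1], [180, 244, 84, 100, 124, 4, 2, 1]]

theorem st0 : stepOK [true] [[]] [[1]] (W0.map (wd Ks)) = true := by decide +kernel

theorem st1 : stepOK [true, true] [[1]] [[2, 1], [3, 1], [22, 1], [23, 1]] (W1.map (wd Ks)) = true := by decide +kernel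

theorem st2 : stepOK [true, false, false] [[2, 1]] S3 (W2.map (wd Ks)) = true := by
  decide +kernel

theorem st3 : stepOK [true, true, false, false] S3 S4 (W3.map (wd Ks)) = true := by
  decide +kernel

theorem st4 : stepOK [true, false, false, false, false] S4 S5 (W4.map (wd Ks)) = true := by
  decide +kernel

theorem st5 : stepOK [true, true, false, false, false, false] S5 S6 [idc] = true := by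
  decide +kernel

theorem st6 : stepOK [true, false, false, false, false, false, false] S6 S7 [idc] = true := by
  decide +kernel

theorem st7 : stepOK [true, true, false, false, false, false, false, false] S7 S8 [idc] = true := by
  decide +kernel

/-- the allowed elements with their words -/
def AL : List (ℕ × List ℕ × List (List ℕ)) :=
  [(0x8040201008040201, [], [[], [], []]), (0xc080201008040201, [4, 1, 5, 5, 0, 4], [[21, 0, 2, 5, 4, 4, 2, 5, 4, 5], [2, 1, 0, 5, 4, 0, 4, 5, 4, 5],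
  [2, 0, 1, 5, 4, 5, 0, 4, 4, 5]]), (0x40c0201008040201, [1, 5, 5, 0], [[21, 0, 2, 5, 4, 2, 5, 4, 4, 5], [3, 2, 5, 4, 4, 2, 5, 4, 5, 2], [1, 5, 5, 4,
  1, 4, 5, 4, 5]]), (0xc04030100c040301, [4], [[4, 3, 2, 2, 4, 0, 1, 2, 4, 1, 0], [1, 1, 5, 0, 4, 5, 0, 4, 5], [5, 3, 5, 4, 5, 2, 5, 4, 5]]),
  (0x408030100c040301, [4, 1, 5, 5, 0], [[13, 3, 5, 4, 5, 5, 3, 4, 5, 2], [0, 1, 5, 5, 4, 0, 5, 4, 5], [0, 4, 3, 4, 2, 4, 4, 0, 2, 4, 3]]),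
  (0x80c030100c040301, [1, 5, 5, 0, 4], [[17, 5, 4, 2, 5, 5, 4, 2, 5], [4, 4, 2, 4, 4, 2, 0, 4, 2, 4, 0], [0, 1, 5, 4, 5, 1, 4, 0, 5]]),
  (0x9440611049041601, [2, 2, 1, 2, 3, 2, 4, 1, 2, 3], [[2, 4, 1, 0, 2, 4, 2, 3, 1, 1, 0], [16, 1, 5, 4, 3, 0, 5], [1, 1, 4, 2, 4, 5, 2, 4]]),
  (0x40e4712049042601, [2, 0, 1, 0, 0, 2, 4, 2, 1], [[7, 5, 3, 4, 3, 0, 5], [2, 2, 4, 4, 1, 0, 2, 3], [3, 1, 4, 5, 5, 4]]), (0xf4b4513049043601, [1,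
  4, 1, 4, 1, 1, 0], [[3, 0, 5, 3, 2, 4, 5, 5], [1, 0, 4, 5, 4], [1, 2, 0, 4, 3, 4, 2, 1, 0, 2]]), (0xd44071104d041701, [2, 2, 4, 3, 4, 2, 4, 1, 4, 0,
  4, 0], [[4, 1, 0, 1, 1, 0, 0, 4, 0], [2, 1, 4, 5, 4, 5, 4], [4, 1, 4, 5, 4, 5, 4]]), (0x40a451204d042701, [1, 2, 4, 3, 0, 3, 4, 4, 0, 2, 0], [[2, 1,
  4, 5, 4, 0, 5], [1, 1, 0, 0, 4, 4, 0, 4, 0, 0], [1, 1, 4, 5, 5, 4]]), (0xb4f461304d043701, [3, 0, 4, 2, 1, 1, 4, 2, 2], [[2, 5, 0, 4, 5, 2, 5, 4],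
  [0, 0, 4, 5, 4], [0, 0, 4, 0, 1, 0, 0, 4, 0, 0]])]

theorem AL_ok : allL AL (fun p =>
    (Nat.beq (wd (Ks ++ [cPhi, cD]) p.2.1) p.1 || anyL [0, 1, 2] fun k => Nat.beq (wd (Ks ++ [p.1]) p.2.1) (cC k)) &&
    allN 3 fun k => Nat.beq (wd (Ks ++ [cC k]) (p.2.2.getD k [])) p.1 || fb (Ks ++ [p.1, cC k]) (p.2.2.getD k [])) = true := by
  decide +kernel

/-- each frame of `S` gives an allowed element or a forbidden conjugate -/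
noncomputable def leafOK (F' : ℕ) (S : List (List ℕ)) : List (List ℕ) → Bool :=
  List.rec (fun _ => true) (fun s _ ih W => force (cmp (pkL s) F') fun c =>
    (anyL AL (fun p => Nat.beq p.1 c) || fb (Ks ++ [c]) (W.headD [])) && ih W.tail) S

theorem leafOK_iff {F' : ℕ} {S W : List (List ℕ)} (h : leafOK F' S W = true) {s : List ℕ} (hs : s ∈ S) :
    (∃ p ∈ AL, p.1 = cmp (pkL s) F') ∨ ∃ w, fb (Ks ++ [cmp (pkL s) F']) w = true := by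
  induction S generalizing W with
  | nil => cases hs
  | cons a S ih =>
    change force (cmp (pkL a) F') (fun c =>
      (anyL AL (fun p => Nat.beq p.1 c) || fb (Ks ++ [c]) (W.headD [])) && leafOK F' S W.tail) = true at h
    rw [force_eq, Bool.and_eq_true, Bool.or_eq_true, anyL_iff] at h
    rcases List.mem_cons.1 hs with rfl | hs
    · exact h.1.imp (fun ⟨p, a, b⟩ => ⟨p, a, beq_iff.1 b⟩) fun e => ⟨_, e⟩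
    · exact ih h.2 hs

theorem lf0 : leafOK 0x8040201008040201 S8
    [[], [0, 4], [0, 4], [], [], [0, 4], [1, 4], [2, 4], [2, 4], [1, 4], [1, 4], [2, 4], [3, 4], [4, 4], [4, 4], [3, 4], [3, 4], [4, 4], [5, 4], [12,
    4, 2, 2], [12, 4, 2, 2], [5, 4], [5, 4], [12, 4, 2, 2], [4, 0, 1, 4], [2, 4, 1, 1, 4], [2, 4, 1, 4], [4, 0, 1, 4], [4, 0, 1, 4], [3, 4, 4, 1, 4],
    [5, 4, 0, 0, 4], [5, 4, 0, 0, 4], [5, 0, 4, 0, 0, 4], [3, 4, 4, 4], [3, 4, 4, 4], [4, 1, 4, 0, 0, 4], [2, 4, 1, 4], [4, 4, 1, 0, 0, 4], [4, 4, 4,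
    0, 0, 4], [1, 1, 4, 4, 4], [2, 1, 0, 4, 4], [2, 4, 4, 4], [4, 0, 1, 4], [3, 4, 4, 4], [0, 1, 4, 4, 4], [4, 0, 1, 4], [4, 0, 1, 4], [2, 1, 0, 4,
    4], [4, 0, 1, 4], [3, 4, 4, 4], [2, 0, 1, 4, 4], [4, 0, 1, 4], [4, 0, 1, 4], [3, 0, 4, 4, 4], [5, 4, 0, 4], [4, 1, 4, 0, 4], [5, 4, 0, 4], [2, 0,
    1, 4, 4], [4, 1, 4, 0, 4], [5, 0, 4, 0, 4], [5, 4, 0, 0, 4], [5, 4, 0, 0, 4], [4, 0, 4, 1, 4], [1, 4, 4, 4], [1, 4, 4, 4], [4, 1, 4, 0, 0, 4], [2,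
    4, 1, 1, 4], [1, 0, 1, 4], [1, 0, 1, 4], [2, 4, 4, 1, 1, 4], [2, 4, 1, 4], [1, 0, 1, 4], [4, 0, 4, 1, 4], [1, 0, 1, 4], [1, 0, 1, 4], [4, 4, 4, 1,
    4], [2, 1, 0, 4, 4], [1, 0, 1, 4], [0, 4, 4, 4], [5, 4, 0, 4], [5, 0, 4, 0, 4], [4, 1, 4, 0, 4], [5, 4, 0, 4], [2, 1, 0, 4, 4], [0, 4, 4, 4], [2,
    4, 1, 4], [2, 0, 1, 4, 4], [2, 0, 1, 4, 4], [0, 4, 0, 4, 4], [2, 1, 4, 1, 1, 4], [4, 4, 0, 1, 1, 4], [1, 0, 1, 4], [1, 0, 1, 4], [2, 0, 1, 4, 4],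
    [2, 1, 4, 1, 1, 4], [1, 0, 1, 4], [2, 1, 0, 4, 0, 4], [4, 1, 4, 0, 4, 4], [4, 1, 4, 4], [4, 1, 4, 4], [5, 4, 0, 4], [4, 0, 1, 4, 1, 4], [5, 1, 4],
    [3, 4, 4, 4], [3, 0, 4, 4, 4], [5, 1, 4], [5, 1, 4], [2, 1, 4, 4], [5, 1, 4], [2, 1, 4, 0, 0, 4], [5, 0, 4, 0, 4], [5, 1, 4], [5, 1, 4], [3, 4, 0,
    4, 4], [0, 4, 0, 4, 4], [4, 0, 1, 4, 1, 4, 4], [4, 0, 1, 4, 0, 4], [1, 0, 4, 4, 4], [2, 1, 4, 4], [2, 1, 4, 4], [5, 4, 1, 1, 0, 4], [2, 1, 4, 1,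
    1, 4], [4, 4, 0, 4], [3, 4, 4, 4], [2, 4, 1, 4], [2, 0, 4, 1, 4], [5, 1, 4], [3, 4, 4, 4], [4, 1, 4, 4], [5, 1, 4], [5, 1, 4], [2, 1, 4, 1, 4],
    [2, 4, 1, 1, 1, 4], [0, 1, 4], [0, 1, 4], [4, 1, 4, 4], [2, 4, 1, 1, 4], [0, 1, 4], [0, 4, 4, 4], [4, 0, 4, 0, 4], [5, 4, 0, 4], [2, 0, 4, 1, 4],
    [2, 1, 4, 4], [2, 1, 4, 4], [4, 0, 4, 0, 0, 4], [4, 0, 4, 0, 0, 4], [2, 4, 1, 4], [1, 4, 4, 4], [4, 4, 0, 4], [4, 1, 4, 4, 0, 4], [5, 0, 4, 0, 4],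
    [0, 1, 4], [0, 1, 4], [4, 1, 4, 1, 4], [2, 1, 4, 4], [0, 1, 4], [4, 1, 4, 0, 0, 4], [0, 1, 4], [0, 1, 4], [4, 1, 4, 1, 1, 0, 4], [2, 1, 4, 1, 4],
    [0, 1, 4], [0, 4, 4, 4], [5, 0, 4, 1, 4], [4, 1, 4, 4], [4, 1, 4, 4], [2, 0, 4, 0, 4], [5, 0, 4, 0, 4, 4], [2, 0, 4], [3, 4, 4, 4], [4, 0, 4, 4],
    [2, 0, 4], [2, 0, 4], [5, 1, 4, 1, 4], [2, 1, 0, 4, 1, 4], [5, 4, 0, 0, 0, 4], [5, 4, 0, 0, 4, 4], [2, 4, 1, 1, 4], [5, 0, 4, 4], [5, 0, 4, 4],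
    [3, 4, 1, 4, 4], [2, 1, 4, 1, 4], [4, 0, 4, 4], [4, 0, 4, 4], [2, 1, 4, 0, 4], [5, 4, 1, 4], [2, 0, 4], [4, 0, 4, 0, 0, 4], [4, 4, 0, 4], [2, 0,
    4], [2, 0, 4], [1, 4, 4, 0, 4], [2, 0, 4], [3, 4, 4, 4], [5, 1, 4, 0, 4], [2, 0, 4], [2, 0, 4], [5, 0, 4, 4], [2, 4, 0, 0, 1, 4], [4, 0, 4, 1, 1,
    4], [4, 0, 4, 0, 4], [3, 4, 4, 4], [3, 4, 4, 4], [4, 4, 0, 1, 4], [0, 4, 4, 4], [4, 1, 4, 1, 4], [4, 0, 4, 4], [4, 0, 4, 4], [1, 4, 4, 1, 4], [2,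
    4, 1, 1, 4], [4, 0, 4, 1, 4, 4], [3, 0, 4], [3, 0, 4], [2, 4, 1, 1, 4], [5, 0, 4, 4], [3, 0, 4], [4, 0, 1, 4, 0, 4, 4], [3, 0, 4], [3, 0, 4], [4,
    0, 4, 4], [4, 0, 1, 4, 0, 4], [3, 0, 4], [2, 1, 4, 0, 0, 4], [2, 1, 4, 0, 0, 4], [2, 1, 0, 4, 1, 4], [1, 4, 4, 4], [1, 4, 4, 4], [5, 4, 0, 0, 4],
    [0, 4, 4, 4], [2, 1, 4, 0, 4], [5, 4, 0, 4, 4], [5, 4, 1, 4], [5, 0, 4, 4], [5, 0, 4, 4], [5, 0, 4, 0, 0, 4], [3, 0, 4], [3, 0, 4], [5, 1, 4, 1,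
    4], [4, 4, 0, 4], [3, 0, 4]] = true := by
  decide +kernel

theorem lf1 : leafOK 0x8040201008040301 S8
    [[18, 4, 2, 2], [0, 4], [0, 4], [18, 4, 2, 2], [18, 4, 2, 2], [0, 4], [1, 4], [2, 4], [2, 4], [1, 4], [1, 4], [2, 4], [3, 4], [4, 4], [4, 4], [3,
    4], [3, 4], [4, 4], [5, 4], [], [], [5, 4], [5, 4], [], [4, 0, 1, 4], [2, 4, 1, 1, 4], [2, 4, 1, 4], [4, 0, 1, 4], [4, 0, 1, 4], [3, 4, 4, 1, 4],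
    [5, 4, 0, 0, 4], [5, 4, 0, 0, 4], [5, 0, 4, 0, 0, 4], [3, 4, 4, 4], [3, 4, 4, 4], [4, 1, 4, 0, 0, 4], [2, 4, 1, 4], [4, 4, 1, 0, 0, 4], [20, 4, 4,
    4, 2, 2], [1, 1, 4, 4, 4], [2, 1, 0, 4, 4], [2, 4, 4, 4], [4, 0, 1, 4], [3, 4, 4, 4], [0, 1, 4, 4, 4], [4, 0, 1, 4], [4, 0, 1, 4], [2, 1, 0, 4,
    4], [4, 0, 1, 4], [3, 4, 4, 4], [2, 0, 1, 4, 4], [4, 0, 1, 4], [4, 0, 1, 4], [3, 0, 4, 4, 4], [5, 4, 0, 4], [4, 1, 4, 0, 4], [5, 4, 0, 4], [2, 0,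
    1, 4, 4], [4, 1, 4, 0, 4], [5, 0, 4, 0, 4], [5, 4, 0, 0, 4], [5, 4, 0, 0, 4], [4, 0, 4, 1, 4], [1, 4, 4, 4], [1, 4, 4, 4], [4, 1, 4, 0, 0, 4], [2,
    4, 1, 1, 4], [1, 0, 1, 4], [1, 0, 1, 4], [18, 4, 4, 4, 2, 2], [2, 4, 1, 4], [1, 0, 1, 4], [4, 0, 4, 1, 4], [1, 0, 1, 4], [1, 0, 1, 4], [4, 4, 4,
    1, 4], [2, 1, 0, 4, 4], [1, 0, 1, 4], [0, 4, 4, 4], [5, 4, 0, 4], [5, 0, 4, 0, 4], [4, 1, 4, 0, 4], [5, 4, 0, 4], [2, 1, 0, 4, 4], [0, 4, 4, 4],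
    [2, 4, 1, 4], [2, 0, 1, 4, 4], [2, 0, 1, 4, 4], [0, 4, 0, 4, 4], [2, 1, 4, 1, 1, 4], [4, 4, 0, 1, 1, 4], [1, 0, 1, 4], [1, 0, 1, 4], [2, 0, 1, 4,
    4], [2, 1, 4, 1, 1, 4], [1, 0, 1, 4], [2, 1, 0, 4, 0, 4], [4, 1, 4, 0, 4, 4], [4, 1, 4, 4], [4, 1, 4, 4], [5, 4, 0, 4], [4, 0, 1, 4, 1, 4], [5, 1,
    4], [3, 4, 4, 4], [3, 0, 4, 4, 4], [5, 1, 4], [5, 1, 4], [2, 1, 4, 4], [5, 1, 4], [2, 1, 4, 0, 0, 4], [5, 0, 4, 0, 4], [5, 1, 4], [5, 1, 4], [3,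
    4, 0, 4, 4], [0, 4, 0, 4, 4], [4, 0, 1, 4, 1, 4, 4], [4, 0, 1, 4, 0, 4], [1, 0, 4, 4, 4], [2, 1, 4, 4], [2, 1, 4, 4], [5, 4, 1, 1, 0, 4], [2, 1,
    4, 1, 1, 4], [4, 4, 0, 4], [3, 4, 4, 4], [2, 4, 1, 4], [2, 0, 4, 1, 4], [5, 1, 4], [3, 4, 4, 4], [4, 1, 4, 4], [5, 1, 4], [5, 1, 4], [2, 1, 4, 1,
    4], [2, 4, 1, 1, 1, 4], [0, 1, 4], [0, 1, 4], [4, 1, 4, 4], [2, 4, 1, 1, 4], [0, 1, 4], [0, 4, 4, 4], [4, 0, 4, 0, 4], [5, 4, 0, 4], [2, 0, 4, 1,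
    4], [2, 1, 4, 4], [2, 1, 4, 4], [4, 0, 4, 0, 0, 4], [4, 0, 4, 0, 0, 4], [2, 4, 1, 4], [1, 4, 4, 4], [4, 4, 0, 4], [4, 1, 4, 4, 0, 4], [5, 0, 4, 0,
    4], [0, 1, 4], [0, 1, 4], [4, 1, 4, 1, 4], [2, 1, 4, 4], [0, 1, 4], [4, 1, 4, 0, 0, 4], [0, 1, 4], [0, 1, 4], [18, 4, 4, 4, 2, 2], [2, 1, 4, 1,
    4], [0, 1, 4], [0, 4, 4, 4], [5, 0, 4, 1, 4], [4, 1, 4, 4], [4, 1, 4, 4], [2, 0, 4, 0, 4], [5, 0, 4, 0, 4, 4], [2, 0, 4], [3, 4, 4, 4], [4, 0, 4,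
    4], [2, 0, 4], [2, 0, 4], [5, 1, 4, 1, 4], [2, 1, 0, 4, 1, 4], [5, 4, 0, 0, 0, 4], [20, 4, 4, 4, 2, 2], [2, 4, 1, 1, 4], [5, 0, 4, 4], [5, 0, 4,
    4], [3, 4, 1, 4, 4], [2, 1, 4, 1, 4], [4, 0, 4, 4], [4, 0, 4, 4], [2, 1, 4, 0, 4], [5, 4, 1, 4], [2, 0, 4], [4, 0, 4, 0, 0, 4], [4, 4, 0, 4], [2,
    0, 4], [2, 0, 4], [1, 4, 4, 0, 4], [2, 0, 4], [3, 4, 4, 4], [5, 1, 4, 0, 4], [2, 0, 4], [2, 0, 4], [5, 0, 4, 4], [2, 4, 0, 0, 1, 4], [4, 0, 4, 1,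
    1, 4], [4, 0, 4, 0, 4], [3, 4, 4, 4], [3, 4, 4, 4], [4, 4, 0, 1, 4], [0, 4, 4, 4], [4, 1, 4, 1, 4], [4, 0, 4, 4], [4, 0, 4, 4], [1, 4, 4, 1, 4],
    [2, 4, 1, 1, 4], [4, 0, 4, 1, 4, 4], [3, 0, 4], [3, 0, 4], [2, 4, 1, 1, 4], [5, 0, 4, 4], [3, 0, 4], [4, 0, 1, 4, 0, 4, 4], [3, 0, 4], [3, 0, 4],
    [4, 0, 4, 4], [4, 0, 1, 4, 0, 4], [3, 0, 4], [2, 1, 4, 0, 0, 4], [2, 1, 4, 0, 0, 4], [2, 1, 0, 4, 1, 4], [1, 4, 4, 4], [1, 4, 4, 4], [5, 4, 0, 0,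
    4], [0, 4, 4, 4], [2, 1, 4, 0, 4], [5, 4, 0, 4, 4], [5, 4, 1, 4], [5, 0, 4, 4], [5, 0, 4, 4], [5, 0, 4, 0, 0, 4], [3, 0, 4], [3, 0, 4], [5, 1, 4,
    1, 4], [4, 4, 0, 4], [3, 0, 4]] = true := by
  decide +kernel

theorem lf2 : leafOK 0x8040251019041601 S8
    [[9, 0, 4, 1, 4, 2, 3, 4], [2, 0, 2, 2, 3, 2, 4, 3, 2], [2, 0, 2, 2, 3, 4, 3, 2], [9, 0, 4, 0, 1, 4, 3, 4], [10, 1, 4, 1, 4, 3, 4], [4, 1, 2, 1,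
    1, 4, 3, 2], [5, 4, 0, 0, 4], [5, 4, 0, 0, 4], [5, 4, 0, 0, 4], [5, 4, 0, 0, 4], [5, 4, 0, 0, 4], [5, 4, 0, 0, 4], [5, 4, 0, 0, 4], [5, 4, 0, 0,
    4], [5, 4, 0, 0, 4], [5, 4, 0, 0, 4], [5, 4, 0, 0, 4], [5, 4, 0, 0, 4], [18, 4, 2, 2, 4], [18, 4, 2, 2, 4], [18, 4, 2, 2, 4], [18, 4, 2, 2, 4],
    [18, 4, 2, 2, 4], [18, 4, 2, 2, 4], [], [3, 2, 4, 2, 4, 2, 4], [5, 1, 4, 4, 1, 1, 4, 4], [5, 1, 4, 4, 1, 4, 4], [18, 2, 4, 2, 4, 4, 2, 4, 2], [2,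
    4, 0, 4, 1, 4, 4], [5, 4, 0, 0, 4], [5, 4, 0, 0, 4], [5, 0, 4, 0, 0, 4], [5, 0, 4, 0, 0, 4], [4, 1, 4, 0, 0, 4], [4, 1, 4, 0, 0, 4], [5, 4, 1, 0,
    4], [2, 0, 1, 4, 1, 0, 4], [5, 0, 4, 1, 0, 0, 1, 4], [5, 0, 4, 1, 0, 4], [4, 1, 4, 1, 0, 4], [3, 4, 4, 1, 4], [4, 0, 4, 1, 0, 4], [0, 0, 1, 2, 4,
    2, 4, 4], [3, 4, 4, 4, 4, 4], [9, 0, 1, 4, 3, 0, 0, 4], [2, 0, 4, 0, 0, 1, 0, 4], [3, 4, 4, 4, 4, 4], [2, 1, 4, 4, 3, 4, 4, 3], [15, 1, 4, 3, 0,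
    1, 4], [3, 4, 4, 4, 4, 4], [9, 2, 0, 4, 1, 4, 2, 4, 4], [7, 4, 1, 4, 0, 2, 3, 4], [9, 2, 1, 4, 2, 4], [4, 1, 4, 0, 0, 4, 4, 4], [22, 2, 0, 4, 2,
    2, 3, 4], [11, 4, 1, 4, 3, 4], [2, 4, 4, 4, 0, 4], [12, 2, 1, 4, 3, 4, 3, 2], [16, 1, 4, 3, 0, 4, 0, 2, 4], [5, 4, 0, 0, 4], [5, 4, 0, 0, 4], [5,
    0, 4, 0, 0, 4], [5, 0, 4, 0, 0, 4], [4, 1, 4, 0, 0, 4], [4, 1, 4, 0, 0, 4], [1, 1, 4, 1, 4, 1, 0, 4], [15, 1, 4, 3, 4, 1, 4], [10, 1, 4, 2, 4, 0,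
    2, 4], [5, 1, 4, 4, 1, 4, 4], [9, 2, 3, 4, 2, 3, 2, 4, 4], [1, 3, 4, 3, 4, 4, 3], [0, 0, 4, 4, 1, 4], [6, 1, 2, 4, 4, 0, 2, 2], [4, 0, 1, 4, 4, 1,
    4], [1, 4, 4, 1, 4], [3, 4, 4, 4, 4, 4], [4, 0, 4, 1, 0, 4], [2, 1, 4, 0, 1, 0, 4], [4, 4, 1, 0, 0, 1, 4], [0, 0, 2, 3, 4, 2, 4, 3], [5, 0, 4, 0,
    0, 1, 0, 4], [20, 4, 4, 3, 4, 1, 4], [7, 3, 4, 4, 0, 3, 0, 4], [2, 1, 4, 4, 3, 4, 4, 3], [2, 1, 4, 4, 3, 4, 4, 3], [18, 4, 2, 4, 2, 4, 2], [10, 3,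
    4, 4, 0, 4, 2], [15, 1, 4, 3, 4, 1, 4], [9, 2, 1, 4, 2, 4], [20, 4, 3, 4, 0, 4], [17, 2, 0, 4, 2, 2, 1, 4], [18, 2, 0, 4, 0, 3, 4, 3], [3, 4, 4,
    4, 4, 4], [3, 4, 4, 4, 4, 4], [9, 1, 4, 3, 0, 1, 4, 2], [5, 4, 0, 0, 4, 4, 4], [14, 3, 4, 2, 4, 2, 4], [2, 1, 3, 4, 4, 4, 3], [5, 1, 4, 0, 4, 0,
    4, 4], [15, 0, 1, 3, 4, 1, 4, 3], [5, 4, 4, 0, 4, 4], [2, 4, 4, 3, 4, 4, 3], [0, 4, 1, 4, 1, 4], [3, 4, 4, 4, 4, 4], [10, 3, 4, 4, 4, 0, 4, 4, 2],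
    [], [18, 4, 3, 4, 4, 4], [5, 1, 4, 1, 1, 4, 4], [3, 4, 4, 0, 0, 1, 4], [3, 0, 4, 4, 0, 1, 4], [0, 4, 4, 1, 4, 4, 4], [9, 4, 2, 3, 0, 0, 4], [22,
    4, 3, 4, 2, 4, 2], [4, 1, 4, 4, 4, 1, 1, 4], [4, 0, 4, 4, 0, 0, 4], [20, 2, 4, 1, 4, 2], [20, 3, 4, 0, 4, 0, 3, 4], [1, 4, 4, 0, 1, 4], [13, 2, 0,
    0, 4, 0, 2, 4], [20, 1, 4, 2, 4, 0, 3], [3, 4, 3, 2, 3, 0, 4, 3], [7, 4, 1, 4, 2, 3, 4], [20, 0, 4, 0, 2, 4, 0, 2], [0, 1, 4, 2, 4, 2], [20, 3, 4,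
    4, 1, 1, 4, 3], [0, 4, 4, 4], [18, 4, 4, 4, 2, 2], [10, 0, 2, 0, 4, 2, 4], [0, 0, 4, 4, 1, 0, 4], [0, 1, 2, 3, 4, 4, 2, 3], [0, 1, 2, 3, 4, 4, 3],
    [1, 0, 1, 3, 2, 2, 4, 3, 2], [10, 3, 4, 2, 4, 2, 4], [18, 1, 4, 3, 4, 0, 0, 4], [3, 4, 4, 4, 4, 4], [3, 4, 4, 4, 4, 4], [5, 4, 4, 0, 4, 4], [2, 4,
    4, 3, 4, 4, 3], [7, 4, 1, 4, 3, 4], [20, 4, 1, 2, 0, 1, 4, 2], [12, 4, 3, 0, 4, 0, 4], [2, 2, 4, 4, 2, 2, 4], [18, 4, 3, 4, 4, 4], [19, 4, 3, 2,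
    4, 3, 4], [4, 0, 4, 4, 0, 0, 4], [4, 4, 1, 1, 0, 0, 4], [4, 1, 2, 4, 3, 2, 4, 3], [0, 4, 4, 0, 1, 4], [18, 4, 3, 4, 2, 4, 2], [2, 3, 4, 3, 4, 3,
    4], [0, 4, 4, 0, 0, 1, 4], [19, 4, 3, 4, 4, 2, 4, 3], [3, 4, 4, 4, 4, 4], [3, 4, 4, 4, 4, 4], [2, 4, 1, 1, 0, 0, 4], [20, 1, 4, 2, 4, 0, 3], [8,
    1, 4, 4, 4, 3, 1, 4], [5, 4, 1, 4, 0, 1, 4], [1, 4, 1, 4, 0, 1, 4], [0, 1, 4, 2, 4, 2], [23, 3, 4, 4, 1, 1, 4, 3], [4, 4, 4, 4], [3, 4, 4, 4], [3,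
    4, 4, 4, 4, 4], [2, 4, 4, 1, 1, 0, 4], [21, 4, 3, 0, 4, 1, 4], [0, 4, 4, 0, 4], [18, 4, 4, 2, 4, 4, 2], [18, 4, 4, 2, 4, 4, 2], [4, 1, 3, 4, 2,
    4], [], [20, 4, 4, 4, 3, 4, 1, 4], [3, 4, 4, 4, 4, 4], [5, 4, 0, 0, 4, 4, 4], [1, 1, 4, 0, 4, 0, 4], [0, 4, 0, 1, 0, 4, 4], [2, 0, 4, 0, 4, 4, 0,
    4], [2, 1, 0, 4, 4, 4, 0, 4], [3, 3, 4, 4, 2, 4], [5, 0, 4, 4, 4, 1, 1, 4], [2, 1, 4, 4, 0, 0, 4], [17, 0, 3, 4, 3, 0, 4, 4, 2], [22, 4, 3, 0, 1,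
    4], [0, 1, 4, 4, 0, 4], [19, 4, 3, 0, 1, 4], [2, 0, 4, 1, 1, 4, 4], [10, 1, 2, 1, 4, 2, 4], [3, 1, 4, 4, 0, 4], [9, 4, 2, 4, 2, 4], [20, 4, 3, 4,
    4, 1, 4], [22, 4, 3, 4, 3, 4, 3], [0, 4, 4, 4], [18, 4, 4, 4, 2, 2], [11, 2, 0, 4, 4, 2], [2, 2, 4, 2, 4, 4, 2], [4, 4, 0, 1, 0, 4], [20, 1, 4, 2,
    2, 0, 0, 4], [14, 4, 3, 1, 0, 0, 4], [4, 0, 4, 1, 0, 4], [1, 0, 4, 1, 4, 0, 4], [4, 0, 4, 1, 0, 4], [4, 1, 4, 1, 4, 0, 4], [4, 1, 4, 0, 1, 0, 4],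
    [18, 4, 4, 2, 4, 4, 2], [18, 4, 4, 2, 4, 4, 2], [4, 1, 3, 4, 2, 4], [1, 4, 4, 4, 1, 4], [18, 4, 2, 2, 0, 4, 1, 4], [11, 4, 4, 3, 0, 4, 0, 2], [0,
    4, 4, 0, 4], [1, 3, 4, 2, 4, 2, 4, 3], [4, 1, 4, 1, 0, 4, 4], [3, 4, 4, 4, 4, 4], [3, 4, 4, 4, 4, 4], [18, 4, 2, 1, 2, 4], [2, 1, 3, 4, 3, 4, 3,
    4], [18, 2, 4, 1, 2, 4, 3], [1, 1, 4, 4, 0, 4], [3, 4, 4, 4, 4, 4], [3, 4, 4, 4, 4, 4], [12, 4, 3, 0, 1, 4], [5, 0, 4, 4, 4, 1, 1, 4], [10, 1, 2,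
    1, 4, 2, 4], [4, 0, 1, 4, 0, 4, 0, 4], [12, 4, 2, 4, 2, 4], [10, 3, 4, 2, 1, 4], [18, 4, 3, 4, 3, 4, 3], [4, 4, 4, 4], [3, 4, 4, 4], [11, 2, 0, 4,
    4, 2], [3, 4, 2, 4, 2, 2, 4], [4, 0, 4, 1, 0, 4], [3, 4, 4, 4, 4, 4], [5, 0, 4, 1, 0, 4], [10, 4, 3, 0, 4, 0, 4], [4, 3, 4, 2, 1, 4], [3, 1, 2, 4,
    2, 4, 3], [5, 0, 4, 1, 0, 0, 1, 4], [5, 0, 4, 1, 0, 4]] = true := by
  decide +kernel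

theorem lf3 : leafOK 0x8040251019041701 S8
    [[18, 4, 2, 2, 4], [18, 4, 2, 2, 4], [18, 4, 2, 2, 4], [18, 4, 2, 2, 4], [18, 4, 2, 2, 4], [18, 4, 2, 2, 4], [5, 4, 0, 0, 4], [5, 4, 0, 0, 4], [5,
    4, 0, 0, 4], [5, 4, 0, 0, 4], [5, 4, 0, 0, 4], [5, 4, 0, 0, 4], [5, 4, 0, 0, 4], [5, 4, 0, 0, 4], [5, 4, 0, 0, 4], [5, 4, 0, 0, 4], [5, 4, 0, 0,
    4], [5, 4, 0, 0, 4], [3, 4, 1, 1, 1, 4, 1, 4], [8, 0, 1, 2, 1, 4, 1, 1, 0, 2], [8, 0, 1, 2, 1, 4, 1, 1, 0, 2], [3, 0, 2, 2, 3, 4, 3, 2], [1, 1, 2,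
    1, 1, 4, 3, 2], [10, 4, 1, 1, 4, 2, 2, 0, 4], [3, 3, 4, 3, 4, 3, 4], [2, 2, 0, 0, 3, 0, 4, 3, 2], [5, 1, 4, 4, 1, 1, 4, 4], [5, 1, 4, 4, 1, 4, 4],
    [4, 3, 4, 4, 2, 2, 4, 3], [2, 4, 0, 4, 1, 4, 4], [5, 4, 0, 0, 4], [5, 4, 0, 0, 4], [5, 0, 4, 0, 0, 4], [5, 0, 4, 0, 0, 4], [4, 1, 4, 0, 0, 4], [4,
    1, 4, 0, 0, 4], [5, 4, 1, 0, 4], [2, 0, 1, 4, 1, 0, 4], [18, 0, 3, 4, 3, 0, 4], [5, 0, 4, 1, 0, 4], [4, 1, 4, 1, 0, 4], [3, 4, 4, 1, 4], [4, 0, 4,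
    1, 0, 4], [0, 4, 2, 4, 4, 2, 4, 2], [3, 4, 4, 4, 4, 4], [14, 4, 2, 3, 4, 1, 4], [2, 0, 4, 0, 0, 1, 0, 4], [3, 4, 4, 4, 4, 4], [1, 4, 2, 4, 2, 4,
    2], [10, 1, 4, 4, 0, 3, 4, 2], [3, 4, 4, 4, 4, 4], [15, 0, 4, 2, 2, 1, 4, 4], [8, 1, 4, 3, 0, 1, 4], [3, 4, 4, 4, 4, 4], [17, 3, 4, 1, 2, 0, 3,
    4], [12, 1, 4, 3, 0, 4, 2, 4], [11, 4, 1, 4, 3, 4], [2, 4, 4, 4, 0, 4], [4, 0, 4, 0, 4, 0, 4, 4], [1, 4, 3, 2, 2, 4, 3], [5, 4, 0, 0, 4], [5, 4,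
    0, 0, 4], [5, 0, 4, 0, 0, 4], [5, 0, 4, 0, 0, 4], [4, 1, 4, 0, 0, 4], [4, 1, 4, 0, 0, 4], [1, 1, 4, 1, 4, 1, 0, 4], [], [5, 1, 4, 4, 1, 1, 4, 4],
    [5, 1, 4, 4, 1, 4, 4], [7, 3, 4, 3, 4, 1, 4, 3], [2, 0, 4, 4, 1, 1, 4, 4], [0, 0, 4, 4, 1, 4], [6, 1, 2, 4, 4, 0, 2, 2], [4, 0, 1, 4, 4, 1, 4],
    [1, 4, 4, 1, 4], [3, 4, 4, 4, 4, 4], [4, 0, 4, 1, 0, 4], [18, 2, 4, 2, 4, 3, 2], [4, 4, 1, 0, 0, 1, 4], [18, 4, 4, 4, 4, 4, 2, 2], [5, 0, 4, 0, 0,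
    1, 0, 4], [20, 4, 4, 3, 4, 1, 4], [20, 4, 2, 3, 4, 1, 4], [5, 4, 2, 4, 2, 4, 2], [17, 1, 2, 4, 2, 2, 1, 4], [11, 0, 4, 3, 0, 0, 4, 3], [5, 0, 4,
    1, 1, 0, 4, 4], [4, 4, 1, 1, 0, 4, 0, 4], [4, 2, 0, 4, 0, 1, 4, 3], [20, 4, 3, 0, 0, 1, 4], [2, 1, 0, 4, 2, 2, 2, 4, 2], [4, 0, 4, 4, 0, 4, 0, 4],
    [3, 4, 4, 4, 4, 4], [3, 4, 4, 4, 4, 4], [3, 1, 3, 4, 4, 4, 3], [5, 4, 0, 0, 4, 4, 4], [5, 4, 0, 0, 4, 4, 4], [3, 4, 4, 4, 0, 4, 4], [5, 1, 4, 0,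
    4, 0, 4, 4], [15, 0, 1, 3, 4, 1, 4, 3], [5, 4, 4, 0, 4, 4], [2, 4, 4, 3, 4, 4, 3], [0, 4, 1, 4, 1, 4], [3, 4, 4, 4, 4, 4], [0, 2, 1, 4, 4, 0, 4,
    2], [8, 1, 4, 4, 4, 3, 1, 4], [3, 4, 4, 2, 4, 3], [5, 1, 4, 1, 1, 4, 4], [3, 4, 4, 0, 0, 1, 4], [22, 3, 4, 4, 2, 4, 3], [0, 4, 4, 1, 4, 4, 4],
    [19, 4, 2, 3, 0, 0, 4], [19, 2, 1, 4, 2, 4, 2, 2], [1, 2, 4, 2, 4], [18, 4, 2, 4, 2], [20, 2, 4, 1, 4, 2], [20, 3, 4, 0, 4, 0, 3, 4], [1, 4, 4, 0,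
    1, 4], [1, 4, 0, 2, 4, 3], [4, 4, 1, 4, 0, 4, 4], [3, 3, 4, 3, 4, 3, 4], [7, 4, 1, 4, 2, 3, 4], [10, 0, 2, 0, 4, 2, 4], [2, 4, 1, 0, 1, 4, 4],
    [14, 0, 4, 1, 2, 3, 4], [0, 4, 4, 4], [4, 1, 4, 0, 0, 4, 4], [0, 1, 4, 2, 4, 2, 3], [0, 0, 4, 4, 1, 0, 4], [0, 1, 2, 3, 4, 4, 2, 3], [0, 1, 4, 2,
    4, 3], [1, 2, 4, 3, 4, 3, 4, 2], [2, 3, 4, 2, 4, 2, 4, 3], [], [3, 4, 4, 4, 4, 4], [3, 4, 4, 4, 4, 4], [5, 4, 4, 0, 4, 4], [1, 1, 2, 4, 2, 4, 4],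
    [7, 4, 1, 4, 3, 4], [2, 1, 2, 4, 2, 4, 4], [16, 4, 0, 4, 0, 3, 4], [2, 2, 4, 4, 2, 2, 4], [1, 2, 1, 4, 1, 2, 4], [15, 1, 2, 4, 1, 2, 2, 4], [4, 0,
    4, 4, 0, 0, 4], [18, 3, 4, 4, 2, 4, 3], [19, 2, 1, 4, 1, 0, 3, 4], [0, 4, 4, 0, 1, 4], [19, 2, 1, 4, 2, 4, 2, 2], [1, 2, 4, 2, 4], [18, 4, 2, 4,
    2], [15, 1, 4, 2, 1, 4, 4, 3, 2], [3, 4, 4, 4, 4, 4], [3, 4, 4, 4, 4, 4], [3, 4, 0, 0, 2, 4, 3], [3, 1, 4, 1, 0, 4, 4], [20, 0, 4, 1, 2, 0, 2, 4],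
    [5, 4, 1, 4, 0, 1, 4], [10, 0, 2, 0, 4, 2, 4], [0, 1, 3, 4, 3, 4, 3, 4], [0, 0, 4, 4, 2, 4, 3], [4, 4, 4, 4], [3, 4, 4, 4], [3, 4, 4, 4, 4, 4],
    [2, 4, 4, 1, 1, 0, 4], [10, 4, 3, 0, 4, 1, 4], [0, 4, 4, 0, 4], [3, 3, 4, 3, 4, 3, 4], [4, 1, 2, 4, 3, 2], [3, 4, 4, 4, 4, 4], [18, 4, 2, 1, 2,
    4], [1, 2, 3, 4, 2, 2, 2, 4, 3], [3, 4, 4, 4, 4, 4], [14, 2, 4, 3, 4, 3, 4], [1, 1, 4, 0, 4, 0, 4], [0, 4, 0, 1, 0, 4, 4], [2, 0, 4, 0, 4, 4, 0,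
    4], [13, 4, 2, 4, 4, 4, 2], [3, 3, 4, 4, 2, 4], [5, 0, 4, 4, 4, 1, 1, 4], [2, 1, 4, 4, 0, 0, 4], [1, 1, 4, 2, 1, 1, 4, 3], [11, 4, 3, 0, 1, 4],
    [0, 1, 4, 4, 0, 4], [9, 4, 3, 0, 1, 4], [2, 0, 4, 1, 1, 4, 4], [6, 0, 4, 3, 0, 1, 4, 2], [3, 1, 4, 4, 0, 4], [2, 3, 4, 3, 2, 2, 4, 2], [18, 4, 4,
    0, 1, 4, 2, 2], [6, 0, 3, 4, 1, 1, 1, 4, 3], [0, 4, 4, 4], [5, 0, 4, 0, 0, 4, 4], [11, 2, 0, 4, 4, 2], [5, 2, 0, 4, 4, 1, 0, 2], [4, 4, 0, 1, 0,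
    4], [5, 0, 4, 0, 0, 1, 0, 4], [15, 1, 2, 4, 4, 0, 2, 2], [4, 0, 4, 1, 0, 4], [1, 0, 4, 1, 4, 0, 4], [4, 0, 4, 1, 0, 4], [4, 1, 4, 1, 4, 0, 4], [4,
    1, 4, 0, 1, 0, 4], [18, 4, 4, 2, 4, 4, 2], [1, 4, 2, 4, 2, 4, 2], [1, 4, 4, 4, 0, 1, 4], [1, 4, 4, 4, 1, 4], [9, 3, 4, 2, 4, 4, 1, 4], [18, 4, 4,
    4, 4, 4, 2, 2], [0, 4, 4, 0, 4], [1, 2, 4, 3, 4, 3, 4, 2], [4, 1, 4, 1, 0, 4, 4], [3, 4, 4, 4, 4, 4], [3, 4, 4, 4, 4, 4], [], [3, 2, 4, 2, 4, 2,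
    4], [4, 1, 4, 4, 4, 1, 1, 4], [1, 1, 4, 4, 0, 4], [18, 4, 3, 0, 1, 4], [15, 4, 1, 2, 4, 2], [6, 1, 0, 3, 4, 1, 4, 2, 3], [5, 0, 4, 4, 4, 1, 1, 4],
    [2, 1, 4, 4, 0, 0, 4], [0, 0, 2, 4, 4, 3, 4, 2], [2, 3, 4, 3, 2, 2, 4, 2], [0, 4, 4, 0, 1, 4], [4, 4, 1, 1, 0, 0, 4], [4, 4, 4, 4], [3, 4, 4, 4],
    [11, 2, 0, 4, 4, 2], [14, 0, 4, 2, 1, 4, 2], [4, 0, 4, 1, 0, 4], [3, 4, 4, 4, 4, 4], [5, 0, 4, 1, 0, 4], [21, 4, 3, 0, 4, 0, 4], [5, 1, 4, 0, 1,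
    0, 4], [5, 0, 4, 0, 1, 0, 4], [14, 4, 3, 0, 0, 4, 4], [5, 0, 4, 1, 0, 4]] = true := by
  decide +kernel

/-- the frames -/
theorem frames : ∀ t ∈ [[2, 1], [3, 1], [22, 1], [23, 1]], ∃ F F', fr F 2 = t ∧
    (okc F && okc F' && Nat.beq (cmp F F') idc) = true ∧ (∀ k < 8, gram (pre 1 (fr F k)) (fn (app 8 256 F k)).val =
      true :: (List.range k).map fun i => i == 0 && k % 2 == 1) ∧ ∃ W, leafOK F' S8 W = true := by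
  simp only [List.forall_mem_cons, List.not_mem_nil, false_imp_iff, implies_true, and_true]
  exact ⟨⟨0x8040201008040201, 0x8040201008040201, by decide +kernel, by decide +kernel, by decide +kernel, _, lf0⟩,
    ⟨0x8040201008040301, 0x8040201008040301, by decide +kernel, by decide +kernel, by decide +kernel, _, lf1⟩,
    ⟨0x8040251019041601, 0x8040251019041601, by decide +kernel, by decide +kernel, by decide +kernel, _, lf2⟩,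
    ⟨0x8040251019041701, 0x8040251019041701, by decide +kernel, by decide +kernel, by decide +kernel, _, lf3⟩⟩

end Cfsg.Agent.T3.C49
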